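import Cfsg.Agent.Lib.Quadratic.Section
import Cfsg.Agent.Lib.ZJ.Theorem

/-!
Sections `Qd(p)` and `SL₂(p)` against `p`-stability.
-/

set_option autoImplicit false
set_option linter.unusedSectionVars false

namespace CfsgLib.Quadratic

open CfsgLib Cfsg
open scoped commutatorElement Pointwise

variable {G : Type*} [Group G] {p : ℕ}

theorem quad_pointwise {V : Subgroup G} {a : G}
    (h : ⁅⁅V, Subgroup.zpowers a⁆, Subgroup.zpowers a⁆ = ⊥) :
    ∀ v ∈ V, a * (a * v * a⁻¹ * v⁻¹) * a⁻¹ = a * v * a⁻¹ * v⁻¹ := by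
  intro v hv
  have h1 : (⁅v, a⁆)⁻¹ ∈ ⁅V, Subgroup.zpowers a⁆ :=
    inv_mem (Subgroup.commutator_mem_commutator hv (Subgroup.mem_zpowers a))
  rw [commutatorElement_inv] at h1
  have h2 := Subgroup.commutator_mem_commutator h1 (Subgroup.mem_zpowers a)
  rw [h, Subgroup.mem_bot, commutatorElement_eq_one_iff_mul_comm] at h2
  rw [commutatorElement_def] at h2
  rw [mul_inv_eq_iff_eq_mul]
  exact h2.symm

theorem exists_section_of_surjective {H : Type*} [Group H] (K : Subgroup G) (f : K →* H)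
    (hf : Function.Surjective f) :
    ∃ (L : Subgroup G) (_ : (L.subgroupOf K).Normal), Nonempty (K ⧸ L.subgroupOf K ≃* H) := by
  have e : (f.ker.map K.subtype).subgroupOf K = f.ker := by
    rw [Subgroup.subgroupOf, Subgroup.comap_map_eq_self_of_injective K.subtype_injective]
  haveI hn : ((f.ker.map K.subtype).subgroupOf K).Normal := by rw [e]; infer_instance
  exact ⟨f.ker.map K.subtype, hn,
    ⟨(QuotientGroup.quotientMulEquivOfEq e).trans (QuotientGroup.quotientKerEquivOfSurjective f hf)⟩⟩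

/-- A subquotient of a quotient is a subquotient. -/
theorem exists_surjective_comap {X H : Type*} [Group X] [Group H] (π : G →* X) (hπ : Function.Surjective π)
    {L : Subgroup X} (f : L →* H) (hf : Function.Surjective f) :
    ∃ f' : L.comap π →* H, Function.Surjective f' := by
  refine ⟨f.comp ((π.comp (L.comap π).subtype).codRestrict L fun x => x.2), hf.comp fun l => ?_⟩
  obtain ⟨g, hg⟩ := hπ l
  exact ⟨⟨g, by rw [Subgroup.mem_comap, hg]; exact l.2⟩, Subtype.ext hg⟩

theorem exists_surjective_map {Y H : Type*} [Group Y] [Group H] (i : G →* Y) (hi : Function.Injective i)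
    {L : Subgroup G} (f : L →* H) (hf : Function.Surjective f) :
    ∃ f' : L.map i →* H, Function.Surjective f' :=
  ⟨f.comp (L.equivMapOfInjective i hi).symm.toMonoidHom, hf.comp (L.equivMapOfInjective i hi).symm.surjective⟩

/-- Involvement in a section gives involvement in the group. -/
theorem involves_section {H : Type*} [Group H] (K R : Subgroup G) [(R.subgroupOf K).Normal]
    (h : Cfsg.Involves H (K ⧸ R.subgroupOf K)) : Cfsg.Involves H G := by
  obtain ⟨A, B, hB, ⟨e⟩⟩ := h
  obtain ⟨f, hf⟩ := exists_surjective_comap _ (QuotientGroup.mk'_surjective (R.subgroupOf K))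
    (e.toMonoidHom.comp (QuotientGroup.mk' (B.subgroupOf A))) (e.surjective.comp (QuotientGroup.mk'_surjective _))
  obtain ⟨f', hf'⟩ := exists_surjective_map K.subtype K.subtype_injective f hf
  exact QdSection.involves_of_surjective _ f' hf'

section Finite

variable [Finite G] [Fact p.Prime]

/-- Without `Qd(p)` every normalizer is `p`-stable. -/
theorem isNormalizerPStable_of_free (hp : p ≠ 2) (h : ¬ Cfsg.Involves (Cfsg.qd p) G) :
    IsNormalizerPStable p G := fun P hP g hg hq => by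
  by_contra hout
  exact h (involves_qd hp hP le_rfl hg (quad_pointwise hq) hout)

/-- Normalizer stability gives stability on normal subgroups. -/
theorem quadStable_of_isNormalizerPStable {G : Type*} [Group G] [Finite G] (h : IsNormalizerPStable p G) :
    ZJ.QuadStable p G := by
  intro V hVn hV a _ hq
  have ha : a ∈ Subgroup.normalizer (V : Set G) := by
    rw [Subgroup.normalizer_eq_top]; trivial
  set f := QuotientGroup.map ((Subgroup.centralizer (V : Set G)).subgroupOf (Subgroup.normalizer (V : Set G)))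
    (Subgroup.centralizer (V : Set G)) (Subgroup.normalizer (V : Set G)).subtype (fun _ hx => hx)
  have hf : Function.Surjective f := fun x => by
    obtain ⟨g, rfl⟩ := QuotientGroup.mk_surjective x
    exact ⟨QuotientGroup.mk ⟨g, by rw [Subgroup.normalizer_eq_top]; trivial⟩, rfl⟩
  have h1 : (pCore p _).map f ≤ pCore p (G ⧸ Subgroup.centralizer (V : Set G)) :=
    le_pCore (hN := Subgroup.Normal.map inferInstance f hf) ((isPGroup_pCore p).map f)
  exact h1 ⟨_, h V hV a ha hq, rfl⟩

/-- A `p`-local subgroup covering a given normalizer in a quotient. -/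
theorem exists_local_lift {X : Type*} [Group X] (π : G →* X) (hπ : Function.Surjective π) (P : Subgroup X)
    (hP : IsPGroup p P) :
    ∃ T : Subgroup G, IsPGroup p T ∧ T.map π = P ∧
      (Subgroup.normalizer (T : Set G)).map π ⊔ P ≥ Subgroup.normalizer (P : Set X) ∧
      P ≤ (Subgroup.normalizer (T : Set G)).map π := by
  obtain ⟨T⟩ := (inferInstance : Nonempty (Sylow p (P.comap π)))
  set Tk := (T : Subgroup (P.comap π)).map (P.comap π).subtype with hTk
  have hTP : Tk.map π = P := by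
    let r : P.comap π →* P := (π.comp (P.comap π).subtype).codRestrict P fun x => x.2
    have hr : Function.Surjective r := fun x => by
      obtain ⟨g, hg⟩ := hπ x
      exact ⟨⟨g, by rw [Subgroup.mem_comap, hg]; exact x.2⟩, Subtype.ext hg⟩
    have htop : ((T.mapSurjective hr : Sylow p P) : Subgroup P) = ⊤ :=
      ((T.mapSurjective hr).3 (hP.of_equiv Subgroup.topEquiv.symm) le_top).symm
    refine le_antisymm ?_ fun x hx => ?_
    · rintro _ ⟨g, ⟨t, -, rfl⟩, rfl⟩
      exact t.2
    · obtain ⟨t, ht, hte⟩ : (⟨x, hx⟩ : P) ∈ (T : Subgroup (P.comap π)).map r := htop.ge (Subgroup.mem_top _)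
      exact ⟨t, ⟨t, ht, rfl⟩, congrArg Subtype.val hte⟩
  refine ⟨Tk, T.2.map _, hTP, ?_, hTP.ge.trans (Subgroup.map_mono Subgroup.le_normalizer)⟩
  intro x hx
  obtain ⟨g, rfl⟩ := hπ x
  have hgn : ∀ y ∈ P.comap π, g * y * g⁻¹ ∈ P.comap π := fun y hy => by
    rw [Subgroup.mem_comap, map_mul, map_mul, map_inv]
    exact (Subgroup.mem_normalizer_iff.1 hx _).1 hy
  let c : P.comap π ≃* P.comap π :=
    { toFun := fun y => ⟨g * y * g⁻¹, hgn y y.2⟩
      invFun := fun y => ⟨g⁻¹ * y * g, by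
        rw [Subgroup.mem_comap, map_mul, map_mul, map_inv]
        refine (Subgroup.mem_normalizer_iff.1 hx _).2 ?_
        rw [show π g * ((π g)⁻¹ * π y * π g) * (π g)⁻¹ = π y by group]
        exact y.2⟩
      left_inv := fun y => Subtype.ext (by simp [mul_assoc])
      right_inv := fun y => Subtype.ext (by simp [mul_assoc])
      map_mul' := fun y z => Subtype.ext (by simp [mul_assoc]) }
  obtain ⟨k, hk⟩ := MulAction.exists_smul_eq (P.comap π) T (T.mapSurjective (f := c.toMonoidHom) c.surjective)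
  have hk' : (k : G)⁻¹ * g ∈ Subgroup.normalizer (Tk : Set G) := by
    refine Local.mem_normalizer_of_map_conj_eq (Subgroup.eq_of_le_of_card_ge (Local.map_conj_le ?_)
      (Subgroup.card_map_of_injective (MulAut.conj ((k : G)⁻¹ * g)).injective).ge)
    rintro _ ⟨t, ht, rfl⟩
    have h1 : c t ∈ ((k • T : Sylow p (P.comap π)) : Subgroup (P.comap π)) := by
      rw [hk]; exact ⟨t, ht, rfl⟩
    rw [Sylow.coe_subgroup_smul, Subgroup.pointwise_smul_def] at h1
    obtain ⟨s, hs, hse⟩ := h1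
    refine ⟨s, hs, ?_⟩
    have h2 : (k : G) * s * (k : G)⁻¹ = g * t * g⁻¹ := congrArg Subtype.val hse
    calc (s : G) = (k : G)⁻¹ * ((k : G) * s * (k : G)⁻¹) * k := by group
      _ = (k : G)⁻¹ * g * t * ((k : G)⁻¹ * g)⁻¹ := by rw [h2]; group
  have e : π g = π k * π ((k : G)⁻¹ * g) := by simp
  rw [e]
  exact Subgroup.mul_mem _ (Subgroup.mem_sup_right k.2) (Subgroup.mem_sup_left ⟨_, hk', rfl⟩)

end Finite

/-- `Qd(p)` is not `p`-stable. -/
theorem not_isNormalizerPStable_of_equiv [Fact p.Prime] (hp : p ≠ 2) (e : G ≃* Cfsg.qd p) :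
    ¬ IsNormalizerPStable p G := by
  intro h
  haveI : Finite G := Finite.of_equiv _ e.symm.toEquiv
  set φ := e.symm.toMonoidHom with hφ
  have hφs : Function.Surjective φ := e.symm.surjective
  set P := (Qd.W p).map φ with hP
  haveI : P.Normal := Subgroup.Normal.map inferInstance φ hφs
  have hN : ∀ g, g ∈ Subgroup.normalizer (P : Set G) := fun g => by
    rw [Subgroup.normalizer_eq_top]; trivial
  have hU : ∀ y ∈ Subgroup.zpowers (Qd.up (1 : ZMod p)), ∃ c, y = Qd.up c := by
    intro y hy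
    obtain ⟨n, rfl⟩ := mem_powers_iff_mem_zpowers.2 hy
    exact ⟨_, Qd.up_pow _ n⟩
  have hquad : ⁅⁅Qd.W p, Subgroup.zpowers (Qd.up (1 : ZMod p))⁆, Subgroup.zpowers (Qd.up (1 : ZMod p))⁆ = ⊥ := by
    rw [Subgroup.commutator_eq_bot_iff_le_centralizer, Subgroup.commutator_le]
    rintro v ⟨x, y, rfl⟩ u hu z hz
    obtain ⟨c, rfl⟩ := hU u hu
    obtain ⟨d, rfl⟩ := hU z hz
    have e1 : ⁅Qd.tr x y, Qd.up c⁆ = Qd.tr (-(c * y)) 0 := by
      rw [commutatorElement_def, mul_assoc (Qd.tr x y * Qd.up c), mul_assoc (Qd.tr x y), ← mul_assoc (Qd.up c),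
        Qd.tr_inv, Qd.up_tr, Qd.tr_mul]
      congr 1 <;> ring
    rw [e1]
    have e2 := Qd.up_tr d (-(c * y)) 0
    rw [mul_zero, add_zero, mul_inv_eq_iff_eq_mul] at e2
    exact e2
  have hq' : ⁅⁅P, Subgroup.zpowers (φ (Qd.up 1))⁆, Subgroup.zpowers (φ (Qd.up 1))⁆ = ⊥ := by
    rw [← MonoidHom.map_zpowers, hP, ← Subgroup.map_commutator, ← Subgroup.map_commutator, hquad, Subgroup.map_bot]
  set N := Subgroup.normalizer (P : Set G)
  set C := (Subgroup.centralizer (P : Set G)).subgroupOf N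
  set D := (pCore p (N ⧸ C)).comap (QuotientGroup.mk' C) with hD
  haveI : D.Normal := Subgroup.normal_comap _
  let ψ : Cfsg.qd p →* N := φ.codRestrict N fun g => hN _
  have h1 : ψ (Qd.up 1) ∈ D := h P ((Qd.isPGroup_W (p := p)).map φ) _ (hN _) hq'
  have h2 : ψ (Qd.low (-1)) ∈ D := by
    have := Subgroup.Normal.conj_mem (inferInstance : D.Normal) _ h1 (ψ Qd.w)
    rwa [← map_inv, ← map_mul, ← map_mul, mul_inv_eq_iff_eq_mul.2 (Qd.conj_up (p := p) 1)] at this
  have h3 : ψ Qd.z ∈ D := by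
    have e3 : (Qd.z : Cfsg.qd p) = Qd.low (-1) * Qd.up 1 * (Qd.low (-1) * Qd.up 1) * (Qd.low (-1) * Qd.up 1) := by
      simp only [Qd.low, Qd.up, Qd.z, Qd.el_mul]
      exact Qd.el_congr (by ring) (by ring) (by ring) (by ring) (by ring) (by ring)
    rw [e3, map_mul, map_mul, map_mul]
    exact D.mul_mem (D.mul_mem (D.mul_mem h2 h1) (D.mul_mem h2 h1)) (D.mul_mem h2 h1)
  obtain ⟨k, hk⟩ := (isPGroup_pCore (G := N ⧸ C) p) ⟨_, h3⟩
  have h4 : ψ Qd.z ^ p ^ k ∈ C := (QuotientGroup.eq_one_iff _).1 (congrArg Subtype.val hk)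
  obtain ⟨m, hm⟩ := ((Fact.out : p.Prime).odd_of_ne_two hp).pow (n := k)
  rw [← map_pow, hm, pow_succ, pow_mul, pow_two, Qd.z_mul_z, one_pow, one_mul] at h4
  have h5 := Subgroup.mem_subgroupOf.1 h4 (φ (Qd.tr 1 0)) ⟨_, Qd.tr_mem 1 0, rfl⟩
  have h6 : Qd.tr (1 : ZMod p) 0 * Qd.z = Qd.z * Qd.tr 1 0 :=
    e.symm.injective (by rw [map_mul, map_mul]; exact h5)
  have h7 := (mul_inv_eq_iff_eq_mul.2 h6.symm).symm.trans (Qd.z_tr (p := p) 1 0)
  obtain ⟨h8, -⟩ := Qd.tr_injective h7
  have h2 : ((2 : ℕ) : ZMod p) = 0 := by push_cast; linear_combination h8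
  rw [ZMod.natCast_eq_zero_iff] at h2
  exact hp ((Nat.prime_dvd_prime_iff_eq Fact.out Nat.prime_two).1 h2)

end CfsgLib.Quadratic
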