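import Cfsg.Agent.Lib.Quadratic.Section
import Cfsg.Agent.S0261

/-!
The section `SL₂(p)` of a quadratic element lives in `H / C_H(V)`, and groups whose `2`-subgroups
are "cyclic up to involutions" have no such section.
-/

set_option autoImplicit false
set_option linter.unusedSectionVars false

namespace CfsgLib.Quadratic

open CfsgLib Cfsg
open CfsgLib.QdSection (act)

universe u
variable {G : Type u} [Group G] [Finite G] {p : ℕ} [hp : Fact p.Prime]

theorem exists_sl2_quot (hp2 : p ≠ 2) {V H : Subgroup G} (hV : IsPGroup p V)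
    (hH : H ≤ Subgroup.normalizer (V : Set G))
    [((Subgroup.centralizer (V : Set G)).subgroupOf H).Normal] {a : G} (haH : a ∈ H)
    (hq : ∀ v ∈ V, a * (a * v * a⁻¹ * v⁻¹) * a⁻¹ = a * v * a⁻¹ * v⁻¹)
    (hout : (QuotientGroup.mk (⟨a, haH⟩ : H) : H ⧸ (Subgroup.centralizer (V : Set G)).subgroupOf H) ∉
      pCore p (H ⧸ (Subgroup.centralizer (V : Set G)).subgroupOf H)) :
    ∃ L : Subgroup (H ⧸ (Subgroup.centralizer (V : Set G)).subgroupOf H),
      ∃ f : L →* Matrix.SpecialLinearGroup (Fin 2) (ZMod p), Function.Surjective f := by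
  classical
  obtain ⟨Y, e, hYV, he, hM⟩ := exists_witness hp2 hV hH haH hq hout
  set C := (Subgroup.centralizer (V : Set G)).subgroupOf H with hC
  let Good : G → Matrix.SpecialLinearGroup (Fin 2) (ZMod p) → Prop := fun g M =>
    ∀ (y : Y) (h : g * (y : G) * g⁻¹ ∈ Y), e ⟨_, h⟩ = act M (e y)
  have hmem : ∀ {g}, g ∈ H ⊓ Subgroup.normalizer (Y : Set G) → ∀ y : Y, g * (y : G) * g⁻¹ ∈ Y :=
    fun hg y => (Subgroup.mem_normalizer_iff.1 hg.2 _).1 y.2
  have huniq : ∀ {g M M'}, g ∈ H ⊓ Subgroup.normalizer (Y : Set G) → Good g M → Good g M' → M = M' :=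
    fun {g M M'} hg h h' => QdSection.act_ext fun v => by
      obtain ⟨y, rfl⟩ := he v
      rw [← h y (hmem hg y), ← h' y (hmem hg y)]
  let K : Subgroup H :=
    { carrier := {g | (g : G) ∈ H ⊓ Subgroup.normalizer (Y : Set G) ∧ ∃ M, Good (g : G) M}
      one_mem' := ⟨one_mem _, 1, fun y h => by rw [QdSection.act_one]; congr 1; exact Subtype.ext (by simp)⟩
      mul_mem' := by
        rintro g g' ⟨hg, M, hMg⟩ ⟨hg', M', hMg'⟩
        refine ⟨mul_mem hg hg', M * M', fun y h => ?_⟩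
        rw [QdSection.act_mul, ← hMg' y (hmem hg' y), ← hMg ⟨_, hmem hg' y⟩ (hmem hg _)]
        congr 1
        exact Subtype.ext (by simp [mul_assoc])
      inv_mem' := by
        rintro g ⟨hg, M, hMg⟩
        refine ⟨inv_mem hg, M⁻¹, fun y h => ?_⟩
        simp only [Subgroup.coe_inv] at h ⊢
        have h1 := hMg ⟨_, h⟩ (by simp [mul_assoc])
        rw [show (⟨(g : G) * ((g : G)⁻¹ * (y : G) * (g : G)⁻¹⁻¹) * (g : G)⁻¹, by simp [mul_assoc]⟩ : Y) = y from
          Subtype.ext (by simp [mul_assoc])] at h1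
        rw [h1, ← QdSection.act_mul, inv_mul_cancel, QdSection.act_one] }
  choose Mf hMf using fun g : K => g.2.2
  let φ : K →* Matrix.SpecialLinearGroup (Fin 2) (ZMod p) :=
    MonoidHom.mk' Mf fun g g' => huniq (g * g').2.1 (hMf _) (by
      intro y h
      have hg := g.2.1
      have hg' := g'.2.1
      rw [QdSection.act_mul, ← hMf g' y (hmem hg' y), ← hMf g ⟨_, hmem hg' y⟩ (hmem hg _)]
      congr 1
      exact Subtype.ext (by simp [mul_assoc]))
  let π : K →* H ⧸ C := (QuotientGroup.mk' C).comp K.subtype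
  have hker : π.rangeRestrict.ker ≤ φ.ker := by
    intro g hg
    rw [MonoidHom.ker_rangeRestrict, MonoidHom.mem_ker] at hg
    have hg' : ((g : H) : G) ∈ Subgroup.centralizer (V : Set G) :=
      Subgroup.mem_subgroupOf.1 ((QuotientGroup.eq_one_iff _).1 hg)
    refine MonoidHom.mem_ker.2 (huniq g.2.1 (hMf g) fun y h => ?_)
    rw [QdSection.act_one]
    congr 1
    exact Subtype.ext (mul_inv_eq_iff_eq_mul.2 (hg' y (hYV y.2)).symm)
  refine ⟨π.range, π.rangeRestrict.liftOfSurjective π.rangeRestrict_surjective ⟨φ, hker⟩, fun M => ?_⟩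
  obtain ⟨g, hg, h⟩ := hM M
  let g' : K := ⟨⟨g, hg.1⟩, hg, M, h⟩
  refine ⟨π.rangeRestrict g', ?_⟩
  rw [MonoidHom.liftOfRightInverse_comp_apply]
  exact huniq hg (hMf g') h

/-- `c` witnesses that a `2`-subgroup is cyclic up to involutions. -/
theorem no_sl2_of_cyclicInvolutions (hp2 : p ≠ 2) {Q : Type u} [Group Q] [Finite Q]
    (hQ : ∀ T : Subgroup Q, IsPGroup 2 T → ∃ c : Q, ∀ x ∈ T, x ∈ Subgroup.zpowers c ∨ x * x = 1)
    {L : Subgroup Q} (f : L →* Matrix.SpecialLinearGroup (Fin 2) (ZMod p)) (hf : Function.Surjective f) :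
    False := by
  classical
  haveI : Fact (Nat.Prime 2) := ⟨Nat.prime_two⟩
  let P0 : Sylow 2 L := default
  set S := P0.mapSurjective hf with hS
  have hodd : Odd (Fintype.card (ZMod p)) := by
    rw [ZMod.card]; exact hp.out.odd_of_ne_two hp2
  obtain ⟨k, hk, ⟨e⟩⟩ := Cfsg.Agent.S0261.result hodd S
  obtain ⟨c, hc⟩ := hQ ((P0 : Subgroup L).map L.subtype) (P0.2.map _)
  obtain ⟨⟨c', hc'⟩⟩ : IsCyclic ((Subgroup.zpowers c).subgroupOf L) :=
    isCyclic_of_injective (L.subtype.subgroupComap (Subgroup.zpowers c))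
      (fun a b h => by
        apply Subtype.ext; apply Subtype.ext
        exact congrArg (fun z : Subgroup.zpowers c => (z : Q)) h)
  have key : ∀ i : ZMod (2 * 2 ^ k), ((e.symm (QuaternionGroup.xa i) : S) : Matrix.SpecialLinearGroup (Fin 2) (ZMod p)) ∈
      Subgroup.zpowers (f c') := by
    intro i
    set y := e.symm (QuaternionGroup.xa i) with hy
    obtain ⟨x, hxP, hxy⟩ := (y.2 : (y : Matrix.SpecialLinearGroup (Fin 2) (ZMod p)) ∈ (P0 : Subgroup L).map f)
    rcases hc (x : Q) ⟨x, hxP, rfl⟩ with h | h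
    · obtain ⟨n, hn⟩ := hc' ⟨x, h⟩
      refine ⟨n, ?_⟩
      rw [← hxy]
      show f (c' : L) ^ n = f x
      rw [← map_zpow]
      exact congrArg f (congrArg Subtype.val hn)
    · exfalso
      have h1 : y * y = 1 := Subtype.ext (by
        show (y : Matrix.SpecialLinearGroup (Fin 2) (ZMod p)) * y = 1
        rw [← hxy, ← map_mul, show x * x = 1 from Subtype.ext h, map_one])
      have h2 := congrArg e h1
      rw [map_mul, map_one, hy, MulEquiv.apply_symm_apply, QuaternionGroup.xa_mul_xa, QuaternionGroup.one_def,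
        QuaternionGroup.a.injEq, add_sub_cancel_right, ZMod.natCast_eq_zero_iff] at h2
      have := Nat.le_of_dvd (by positivity) h2
      have : 1 ≤ 2 ^ k := Nat.one_le_two_pow
      omega
  obtain ⟨m, hm⟩ := key 0
  obtain ⟨n, hn⟩ := key 1
  have hcomm : e.symm (QuaternionGroup.xa 0) * e.symm (QuaternionGroup.xa 1) =
      e.symm (QuaternionGroup.xa 1) * e.symm (QuaternionGroup.xa 0) := Subtype.ext (by
    rw [Subgroup.coe_mul, Subgroup.coe_mul, ← hm, ← hn]
    exact ((Commute.refl _).zpow_zpow m n).eq)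
  rw [← map_mul, ← map_mul, e.symm.injective.eq_iff, QuaternionGroup.xa_mul_xa, QuaternionGroup.xa_mul_xa,
    QuaternionGroup.a.injEq] at hcomm
  have h6 : (((2 : ℕ) : ZMod (2 * 2 ^ k))) = 0 := by push_cast; linear_combination hcomm
  rw [ZMod.natCast_eq_zero_iff] at h6
  have := Nat.le_of_dvd two_pos h6
  have : 2 ^ 1 ≤ 2 ^ k := Nat.pow_le_pow_right two_pos hk
  omega

end CfsgLib.Quadratic
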