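import Cfsg.Agent.Lib.Quadratic.Pair
import Cfsg.Agent.Lib.QdSection
import Cfsg.Agent.Lib.AbelianOffender
import Cfsg.Agent.Lib.CoprimeGen
import Cfsg.Agent.Lib.S4Criterion

/-!
A quadratically acting element outside `O_p` gives a section `SL₂(p)` acting naturally.
-/

set_option autoImplicit false
set_option linter.unusedSectionVars false

namespace CfsgLib.Quadratic

open CfsgLib CfsgLib.Local Cfsg CfsgLib.AbelianOffender
open CfsgLib.QdSection (Vec act)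
open scoped Pointwise Matrix commutatorElement

universe u
variable {G : Type u} [Group G] [Finite G] {p : ℕ} [hp : Fact p.Prime]

/-- Conjugation on the section `M / N`. -/
def sectionEnd {M N : Subgroup G} [(N.subgroupOf M).Normal] (g : G)
    (hM : ∀ m ∈ M, g * m * g⁻¹ ∈ M) (hN : ∀ n ∈ N, g * n * g⁻¹ ∈ N) :
    M ⧸ N.subgroupOf M →* M ⧸ N.subgroupOf M :=
  QuotientGroup.map (N.subgroupOf M) (N.subgroupOf M)
    (MonoidHom.mk' (fun m : M => (⟨g * m * g⁻¹, hM m m.2⟩ : M))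
      fun a b => Subtype.ext (by simp [mul_assoc]))
    fun n hn => hN _ hn

theorem exists_witness (hp2 : p ≠ 2) {V H : Subgroup G} (hV : IsPGroup p V)
    (hH : H ≤ Subgroup.normalizer (V : Set G))
    [hn : ((Subgroup.centralizer (V : Set G)).subgroupOf H).Normal] {a : G} (haH : a ∈ H)
    (hq : ∀ v ∈ V, a * (a * v * a⁻¹ * v⁻¹) * a⁻¹ = a * v * a⁻¹ * v⁻¹)
    (hout : (QuotientGroup.mk (⟨a, haH⟩ : H) : H ⧸ (Subgroup.centralizer (V : Set G)).subgroupOf H) ∉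
      pCore p (H ⧸ (Subgroup.centralizer (V : Set G)).subgroupOf H)) :
    ∃ (Y : Subgroup G) (e : Y →* Vec p), Y ≤ V ∧ Function.Surjective e ∧
      ∀ M : Matrix.SpecialLinearGroup (Fin 2) (ZMod p), ∃ g ∈ H ⊓ Subgroup.normalizer (Y : Set G),
        ∀ (y : Y) (h : g * (y : G) * g⁻¹ ∈ Y), e ⟨_, h⟩ = act M (e y) := by
  classical
  set C := Subgroup.centralizer (V : Set G) with hC
  set π := QuotientGroup.mk' (C.subgroupOf H)
  have hVn : ∀ g ∈ H, ∀ v ∈ V, g * v * g⁻¹ ∈ V := fun g hg v hv =>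
    (Subgroup.mem_normalizer_iff.1 (hH hg) v).1 hv
  obtain ⟨e, he⟩ := hV.exists_card_eq
  have hVpow : ∀ v ∈ V, v ^ p ^ e = 1 := fun v hv =>
    orderOf_dvd_iff_pow_eq_one.1 (he ▸ Subgroup.orderOf_dvd_natCard V hv)
  -- quadratic elements are `p`-elements modulo the kernel
  have hapow : ∀ b ∈ H, (∀ v ∈ V, b * (b * v * b⁻¹ * v⁻¹) * b⁻¹ = b * v * b⁻¹ * v⁻¹) →
      b ^ p ^ e ∈ C := by
    intro b hb hbq v hv
    have hd : b * v * b⁻¹ * v⁻¹ ∈ V := V.mul_mem (hVn b hb v hv) (V.inv_mem hv)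
    have h1 := conj_pow_eq (g := b) (v := v) (d := b * v * b⁻¹ * v⁻¹) (by group) (hbq v hv) (p ^ e)
    rw [hVpow _ hd, one_mul, mul_inv_eq_iff_eq_mul] at h1
    exact h1.symm
  -- a pair of conjugates generating more than a `p`-group
  set qa : H ⧸ C.subgroupOf H := π ⟨a, haH⟩ with hqa
  have hqap : IsPGroup p (Subgroup.zpowers qa) := IsPGroup.of_card_dvd_pow (n := e) (by
    rw [Nat.card_zpowers]
    refine orderOf_dvd_of_pow_eq_one ?_
    rw [hqa, ← map_pow]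
    exact (QuotientGroup.eq_one_iff _).2 (Subgroup.mem_subgroupOf.2 (hapow a haH hq)))
  obtain ⟨q, hq'⟩ : ∃ q : H ⧸ C.subgroupOf H,
      ¬ IsPGroup p ↥(Subgroup.zpowers qa ⊔ MulAut.conj q • Subgroup.zpowers qa) := by
    by_contra h
    push Not at h
    exact hout (isSubnormal_isPGroup_le_pCore
      (le_fitting_of_sup_conj_nilpotent _ fun q => (h q).isNilpotent).1 hqap (Subgroup.mem_zpowers qa))
  obtain ⟨⟨c, hcH⟩, rfl⟩ := QuotientGroup.mk'_surjective _ q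
  set b := c * a * c⁻¹ with hb
  have hbH : b ∈ H := H.mul_mem (H.mul_mem hcH haH) (H.inv_mem hcH)
  have hbq : ∀ v ∈ V, b * (b * v * b⁻¹ * v⁻¹) * b⁻¹ = b * v * b⁻¹ * v⁻¹ := by
    intro v hv
    have hv' : c⁻¹ * v * c ∈ V := by simpa using hVn c⁻¹ (H.inv_mem hcH) v hv
    have h1 := congrArg (fun u => c * u * c⁻¹) (hq _ hv')
    calc b * (b * v * b⁻¹ * v⁻¹) * b⁻¹
        = c * (a * (a * (c⁻¹ * v * c) * a⁻¹ * (c⁻¹ * v * c)⁻¹) * a⁻¹) * c⁻¹ := by rw [hb]; group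
      _ = c * (a * (c⁻¹ * v * c) * a⁻¹ * (c⁻¹ * v * c)⁻¹) * c⁻¹ := h1
      _ = _ := by rw [hb]; group
  set X := Subgroup.closure ({a, b} : Set G) with hX
  have hXH : X ≤ H := (Subgroup.closure_le _).2 (Set.insert_subset haH (Set.singleton_subset_iff.2 hbH))
  have haX : a ∈ X := Subgroup.subset_closure (Set.mem_insert _ _)
  have hbX : b ∈ X := Subgroup.subset_closure (Set.mem_insert_of_mem _ rfl)
  obtain ⟨x, hxX, hxC, hxp⟩ : ∃ x ∈ X, x ∉ C ∧ (orderOf x).Coprime p := by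
    by_contra h
    push Not at h
    refine hq' (IsPGroup.to_le (K := (X.subgroupOf H).map π) ?_ ?_)
    · rintro ⟨_, y, hy, rfl⟩
      obtain ⟨i, t, ht, hit⟩ := Nat.exists_eq_pow_mul_and_not_dvd (orderOf_pos (y : G)).ne' p hp.out.ne_one
      have hit' : t ∣ orderOf (y : G) := hit ▸ dvd_mul_left t (p ^ i)
      have h1 : (y : G) ^ p ^ i ∈ C := by
        by_contra hyC
        refine h _ (X.pow_mem hy _) hyC ?_
        refine ((hp.out.coprime_iff_not_dvd.2 ht).symm).coprime_dvd_left (orderOf_dvd_of_pow_eq_one ?_)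
        rw [← pow_mul, ← hit]
        exact pow_orderOf_eq_one _
      refine ⟨i, Subtype.ext ?_⟩
      show π y ^ p ^ i = 1
      rw [← map_pow]
      exact (QuotientGroup.eq_one_iff _).2 (Subgroup.mem_subgroupOf.2 h1)
    · rw [show MulAut.conj (π ⟨c, hcH⟩) • Subgroup.zpowers qa =
        Subgroup.zpowers (π ⟨b, hbH⟩) from by
          show (Subgroup.zpowers qa).map (MulAut.conj (π ⟨c, hcH⟩)).toMonoidHom = _
          rw [MonoidHom.map_zpowers]
          rfl]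
      exact sup_le (Subgroup.zpowers_le.2 ⟨⟨a, haH⟩, haX, rfl⟩) (Subgroup.zpowers_le.2 ⟨⟨b, hbH⟩, hbX, rfl⟩)
  -- a smallest invariant subgroup moved by `x`
  obtain ⟨M, ⟨hMV, hXM, v₀, hv₀, hxv₀⟩, hMmin⟩ := Set.exists_min_image
    {M : Subgroup G | M ≤ V ∧ X ≤ Subgroup.normalizer (M : Set G) ∧ ∃ v ∈ M, x * v * x⁻¹ ≠ v}
    (fun M => Nat.card M) (Set.toFinite _) ⟨V, le_rfl, hXH.trans hH, by
      by_contra h
      push Not at h
      exact hxC fun v hv => (mul_inv_eq_iff_eq_mul.1 (h v hv)).symm⟩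
  have hMp : IsPGroup p M := isPGroup_of_le hMV hV
  set F := (frattini M).map M.subtype with hF
  have hFlt : F < M := by
    refine lt_of_le_of_ne (Subgroup.map_subtype_le _) fun h => ?_
    have h1 : frattini M = ⊤ := Subgroup.map_injective M.subtype_injective
      (by rw [← MonoidHom.range_eq_map, Subgroup.range_subtype]; exact h)
    haveI : Nontrivial M := by
      rw [Subgroup.nontrivial_iff_ne_bot]
      rintro rfl
      rw [Subgroup.mem_bot.1 hv₀] at hxv₀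
      exact hxv₀ (by group)
    rcases eq_top_or_exists_le_coatom (⊥ : Subgroup M) with h2 | ⟨K, hK, -⟩
    · exact bot_ne_top h2
    · exact hK.1 (top_le_iff.1 (h1.ge.trans (iInf₂_le K hK)))
  obtain ⟨N, ⟨hNM, hFN, hXN⟩, hNmax⟩ := Set.exists_max_image
    {N : Subgroup G | N < M ∧ F ≤ N ∧ X ≤ Subgroup.normalizer (N : Set G)}
    (fun N => Nat.card N) (Set.toFinite _) ⟨F, hFlt, le_rfl, (le_normalizer_map_characteristic hXM (frattini M)).1⟩
  have hxN : ∀ n ∈ N, x * n * x⁻¹ = n := by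
    intro n hn
    by_contra h
    exact hNM.not_ge (Subgroup.eq_of_le_of_card_ge hNM.le (hMmin N ⟨hNM.le.trans hMV, hXN, n, hn, h⟩)).ge
  have hcomm : ∀ m ∈ M, ∀ m' ∈ M, m * m' * m⁻¹ * m'⁻¹ ∈ N := fun m hm m' hm' =>
    hFN ⟨⁅(⟨m, hm⟩ : M), ⟨m', hm'⟩⁆, commutator_le_frattini_pGroup hMp
      (Subgroup.commutator_mem_commutator (Subgroup.mem_top _) (Subgroup.mem_top _)), by
      simp [commutatorElement_def]⟩
  haveI hNn : (N.subgroupOf M).Normal := ⟨fun n hn m => by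
    rw [Subgroup.mem_subgroupOf] at hn ⊢
    have h1 := N.mul_mem (hcomm m m.2 n (hNM.le hn)) hn
    simpa using h1⟩
  letI : CommGroup (M ⧸ N.subgroupOf M) :=
    { (inferInstance : Group (M ⧸ N.subgroupOf M)) with
      mul_comm := fun s t => by
        obtain ⟨s, rfl⟩ := QuotientGroup.mk_surjective s
        obtain ⟨t, rfl⟩ := QuotientGroup.mk_surjective t
        rw [← QuotientGroup.mk_mul, ← QuotientGroup.mk_mul, QuotientGroup.eq, Subgroup.mem_subgroupOf]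
        have h1 := hcomm _ (M.inv_mem t.2) _ (M.inv_mem s.2)
        simpa [mul_assoc] using h1 }
  have hXMN : ∀ g ∈ X, (∀ m ∈ M, g * m * g⁻¹ ∈ M) ∧ ∀ n ∈ N, g * n * g⁻¹ ∈ N := fun g hg =>
    ⟨fun m hm => (Subgroup.mem_normalizer_iff.1 (hXM hg) m).1 hm,
      fun n hn => (Subgroup.mem_normalizer_iff.1 (hXN hg) n).1 hn⟩
  let cls : M → Additive (M ⧸ N.subgroupOf M) := fun m => Additive.ofMul (QuotientGroup.mk m)
  have hcls : Function.Surjective cls := fun u => by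
    obtain ⟨m, hm⟩ := QuotientGroup.mk_surjective u.toMul
    exact ⟨m, congrArg Additive.ofMul hm⟩
  have hclsadd : ∀ m m', cls (m * m') = cls m + cls m' := fun _ _ => rfl
  let φ : X →* AddMonoid.End (Additive (M ⧸ N.subgroupOf M)) :=
    { toFun := fun g => MonoidHom.toAdditive (sectionEnd (g : G) (hXMN g g.2).1 (hXMN g g.2).2)
      map_one' := by
        refine AddMonoidHom.ext fun u => ?_
        obtain ⟨m, rfl⟩ := hcls u
        exact congrArg Additive.ofMul (congrArg QuotientGroup.mk (Subtype.ext (by simp)))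
      map_mul' := fun g h => by
        refine AddMonoidHom.ext fun u => ?_
        obtain ⟨m, rfl⟩ := hcls u
        exact congrArg Additive.ofMul (congrArg QuotientGroup.mk (Subtype.ext (by simp [mul_assoc]))) }
  have hφ : ∀ (g : X) (m : M), φ g (cls m) = cls ⟨g * m * (g : G)⁻¹, (hXMN g g.2).1 m m.2⟩ := fun _ _ => rfl
  have hpU : ∀ u : Additive (M ⧸ N.subgroupOf M), p • u = 0 := by
    intro u
    obtain ⟨m, rfl⟩ := hcls u
    show Additive.ofMul ((QuotientGroup.mk m : M ⧸ N.subgroupOf M) ^ p) = 0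
    rw [← QuotientGroup.mk_pow, (QuotientGroup.eq_one_iff _).2]
    · rfl
    · exact Subgroup.mem_subgroupOf.2 (hFN ⟨m ^ p, pow_mem_frattini_pGroup hMp m, rfl⟩)
  have hsq : ∀ g : X, (∀ v ∈ V, (g : G) * ((g : G) * v * (g : G)⁻¹ * v⁻¹) * (g : G)⁻¹ = (g : G) * v * (g : G)⁻¹ * v⁻¹) →
      (φ g - 1) * (φ g - 1) = 0 := by
    intro g hg
    refine AddMonoidHom.ext fun u => ?_
    obtain ⟨m, rfl⟩ := hcls u
    have hd : (g : G) * m * (g : G)⁻¹ * (m : G)⁻¹ ∈ M :=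
      M.mul_mem ((hXMN g g.2).1 m m.2) (M.inv_mem m.2)
    have e1 : φ g (cls m) - cls m = cls ⟨_, hd⟩ := by
      rw [sub_eq_iff_eq_add, hφ, ← hclsadd]
      exact congrArg cls (Subtype.ext (by simp))
    show φ g (φ g (cls m) - cls m) - (φ g (cls m) - cls m) = 0
    rw [e1, sub_eq_zero, hφ]
    exact congrArg cls (Subtype.ext (hg m (hMV m.2)))
  set A := φ ⟨a, haX⟩ - 1 with hA
  set B := φ ⟨b, hbX⟩ - 1 with hB
  have hA2 : A * A = 0 := hsq ⟨a, haX⟩ hq
  have hB2 : B * B = 0 := hsq ⟨b, hbX⟩ hbq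
  have hφA : φ ⟨a, haX⟩ = 1 + A := by rw [hA, add_sub_cancel]
  have hφB : φ ⟨b, hbX⟩ = 1 + B := by rw [hB, add_sub_cancel]
  have hne : A * B ≠ B * A := by
    intro hAB
    have hab : Commute (φ ⟨a, haX⟩) (φ ⟨b, hbX⟩) := by
      rw [hφA, hφB]
      exact (Commute.one_left _).add_left ((Commute.one_right A).add_right hAB)
    let ψ := φ.toHomUnits
    have hψ : ∀ g : X, (ψ g : AddMonoid.End _) = φ g := fun _ => rfl
    have hmono : ∀ S : Subgroup X, (⟨a, haX⟩ : X) ∈ S → (⟨b, hbX⟩ : X) ∈ S → ∀ g : X, g ∈ S := by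
      intro S h1 h2 g
      have hle : X ≤ S.map X.subtype := (Subgroup.closure_le _).2
        (Set.insert_subset ⟨_, h1, rfl⟩ (Set.singleton_subset_iff.2 ⟨_, h2, rfl⟩))
      obtain ⟨g', hg', e⟩ := hle g.2
      rwa [← X.subtype_injective e]
    have hab' : ψ ⟨a, haX⟩ * ψ ⟨b, hbX⟩ = ψ ⟨b, hbX⟩ * ψ ⟨a, haX⟩ := Units.ext hab.eq
    have h1 : ∀ g : X, ψ g * ψ ⟨a, haX⟩ = ψ ⟨a, haX⟩ * ψ g ∧ ψ g * ψ ⟨b, hbX⟩ = ψ ⟨b, hbX⟩ * ψ g := by
      intro g
      have := hmono ((Subgroup.centralizer {ψ ⟨a, haX⟩, ψ ⟨b, hbX⟩}).comap ψ)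
        (by rintro y (rfl | rfl) <;> [rfl; exact hab'.symm]) (by rintro y (rfl | rfl) <;> [exact hab'; rfl]) g
      exact ⟨(this _ (Set.mem_insert _ _)).symm, (this _ (Set.mem_insert_of_mem _ rfl)).symm⟩
    have h2 : ∀ g g' : X, ψ g * ψ g' = ψ g' * ψ g := fun g g' => by
      refine (hmono ((Subgroup.centralizer {ψ g'}).comap ψ) ?_ ?_ g) (ψ g') rfl |>.symm
      · rintro y rfl; exact (h1 g').1
      · rintro y rfl; exact (h1 g').2
    let S : Subgroup X :=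
      { carrier := {g | ψ g ^ p = 1}
        one_mem' := by simp
        mul_mem' := fun {g g'} (hg : ψ g ^ p = 1) (hg' : ψ g' ^ p = 1) => by
          show ψ (g * g') ^ p = 1
          rw [map_mul, (show Commute (ψ g) (ψ g') from h2 g g').mul_pow, hg, hg', one_mul]
        inv_mem' := fun {g} (hg : ψ g ^ p = 1) => by
          show ψ g⁻¹ ^ p = 1
          rw [map_inv, inv_pow, hg, inv_one] }
    have hpow1 : ∀ {T : AddMonoid.End (Additive (M ⧸ N.subgroupOf M))}, T * T = 0 → (1 + T) ^ p = 1 := by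
      intro T hT
      have h : ∀ n : ℕ, (1 + T) ^ n = 1 + n • T := by
        intro n
        induction n with
        | zero => simp
        | succ n ih =>
          rw [pow_succ, ih, add_mul, one_mul, mul_add, mul_one, smul_mul_assoc, hT, smul_zero, add_zero,
            succ_nsmul, add_comm (n • T), add_assoc]
      rw [h, show p • T = 0 from AddMonoidHom.ext fun u => hpU (T u), add_zero]
    have h3 : ψ ⟨x, hxX⟩ ^ p = 1 := hmono S
      (Units.ext (by rw [Units.val_pow_eq_pow_val, hψ, hφA]; exact hpow1 hA2))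
      (Units.ext (by rw [Units.val_pow_eq_pow_val, hψ, hφB]; exact hpow1 hB2)) ⟨x, hxX⟩
    have h4 : ψ ⟨x, hxX⟩ ^ orderOf x = 1 := by
      rw [← map_pow, show (⟨x, hxX⟩ : X) ^ orderOf x = 1 from Subtype.ext (pow_orderOf_eq_one x), map_one]
    have h5 : ψ ⟨x, hxX⟩ = 1 := by
      have h := pow_gcd_eq_one.mpr ⟨h4, h3⟩
      rwa [hxp, pow_one] at h
    obtain ⟨m, hm, hxm⟩ : ∃ m ∈ M, x * m * x⁻¹ ≠ m := ⟨v₀, hv₀, hxv₀⟩
    refine hxm ?_
    have h6 : φ ⟨x, hxX⟩ (cls ⟨m, hm⟩) = cls ⟨m, hm⟩ := by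
      rw [← hψ, h5]
      rfl
    rw [hφ] at h6
    have h7 : (x * m * x⁻¹)⁻¹ * m ∈ N :=
      Subgroup.mem_subgroupOf.1 (QuotientGroup.eq.1 (Additive.ofMul.injective h6))
    set d := x * m * x⁻¹ * m⁻¹ with hd
    have hdN : d ∈ N := by
      have hxm' : x * m * x⁻¹ ∈ M := (hXMN x hxX).1 m hm
      have h8 := N.mul_mem (hcomm _ hxm' _ (M.inv_mem hm)) (N.inv_mem h7)
      convert h8 using 1
      rw [hd]; group
    have h9 := conj_pow_eq (g := x) (v := m) (d := d) (by rw [hd]; group) (hxN d hdN) (orderOf x)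
    rw [pow_orderOf_eq_one, one_mul, inv_one, mul_one, eq_comm, mul_eq_right] at h9
    have h10 := pow_gcd_eq_one.mpr ⟨h9, hVpow d (hMV (hNM.le hdN))⟩
    rw [(hxp.pow_right e : (orderOf x).Coprime (p ^ e)), pow_one, hd, mul_inv_eq_one] at h10
    exact h10
  have hirr : ∀ W : AddSubgroup (Additive (M ⧸ N.subgroupOf M)),
      (∀ w ∈ W, A w ∈ W) → (∀ w ∈ W, B w ∈ W) → W = ⊥ ∨ W = ⊤ := by
    intro W hWA hWB
    let W' : Subgroup G :=
      { carrier := {m | ∃ hm : m ∈ M, cls ⟨m, hm⟩ ∈ W}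
        one_mem' := ⟨M.one_mem, W.zero_mem⟩
        mul_mem' := fun {s t} ⟨hs, hs'⟩ ⟨ht, ht'⟩ => ⟨M.mul_mem hs ht, W.add_mem hs' ht'⟩
        inv_mem' := fun {s} ⟨hs, hs'⟩ => ⟨M.inv_mem hs, W.neg_mem hs'⟩ }
    have hW'M : W' ≤ M := fun m hm => hm.1
    have hNW : N ≤ W' := fun n hn => ⟨hNM.le hn, by
      rw [show cls ⟨n, hNM.le hn⟩ = 0 from congrArg Additive.ofMul
        ((QuotientGroup.eq_one_iff _).2 (Subgroup.mem_subgroupOf.2 hn))]
      exact W.zero_mem⟩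
    have hgen : ∀ (g : X), (∀ w ∈ W, φ g w ∈ W) → (g : G) ∈ Subgroup.normalizer (W' : Set G) := fun g hg =>
      mem_normalizer_of_map_conj_eq (Subgroup.eq_of_le_of_card_ge (map_conj_le fun m hm =>
        ⟨(hXMN g g.2).1 m hm.1, by have h1 := hg _ hm.2; rwa [hφ] at h1⟩)
        (Subgroup.card_map_of_injective (MulAut.conj (g : G)).injective).ge)
    have hXW : X ≤ Subgroup.normalizer (W' : Set G) := by
      refine (Subgroup.closure_le _).2 (Set.insert_subset ?_ (Set.singleton_subset_iff.2 ?_))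
      · exact hgen ⟨a, haX⟩ fun w hw => by rw [hφA]; exact W.add_mem hw (hWA w hw)
      · exact hgen ⟨b, hbX⟩ fun w hw => by rw [hφB]; exact W.add_mem hw (hWB w hw)
    by_cases h : W' = M
    · right
      refine eq_top_iff.2 fun u _ => ?_
      obtain ⟨m, rfl⟩ := hcls u
      exact (h.ge m.2).2
    · left
      have hWN : W' = N := (Subgroup.eq_of_le_of_card_ge hNW
        (hNmax W' ⟨lt_of_le_of_ne hW'M h, hFN.trans hNW, hXW⟩)).symm
      refine eq_bot_iff.2 fun u hu => ?_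
      obtain ⟨m, rfl⟩ := hcls u
      refine AddSubgroup.mem_bot.2 (congrArg Additive.ofMul
        ((QuotientGroup.eq_one_iff _).2 (Subgroup.mem_subgroupOf.2 ?_)))
      exact hWN.le ⟨m.2, hu⟩
  obtain ⟨j, hj, hact⟩ := exists_natural hp2 hpU hA2 hB2 hirr hne (MonoidHom.mrange φ)
    ⟨_, hφA⟩ ⟨_, hφB⟩
  -- the preimage of the natural subgroup
  let Y : Subgroup G :=
    { carrier := {m | ∃ hm : m ∈ M, cls ⟨m, hm⟩ ∈ j.range}
      one_mem' := ⟨M.one_mem, j.range.zero_mem⟩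
      mul_mem' := fun {s t} ⟨hs, hs'⟩ ⟨ht, ht'⟩ => ⟨M.mul_mem hs ht, j.range.add_mem hs' ht'⟩
      inv_mem' := fun {s} ⟨hs, hs'⟩ => ⟨M.inv_mem hs, j.range.neg_mem hs'⟩ }
  have hYM : ∀ y : Y, (y : G) ∈ M := fun y => y.2.1
  let ey : Y → (Fin 2 → ZMod p) := fun y => (AddMonoidHom.ofInjective hj).symm ⟨cls ⟨y, hYM y⟩, y.2.2⟩
  have hey : ∀ y : Y, j (ey y) = cls ⟨y, hYM y⟩ := fun y => AddMonoidHom.apply_ofInjective_symm hj _
  refine ⟨Y, MonoidHom.mk' (fun y => Multiplicative.ofAdd (ey y)) (fun y z => congrArg Multiplicative.ofAdd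
    (hj (by
      show j (ey (y * z)) = j (ey y + ey z)
      rw [map_add, hey, hey, hey]; rfl))), fun m hm => hMV hm.1, fun w => ?_, fun T => ?_⟩
  · obtain ⟨m, hm⟩ := hcls (j w.toAdd)
    exact ⟨⟨m, m.2, ⟨_, hm.symm⟩⟩, congrArg Multiplicative.ofAdd (hj ((hey _).trans hm))⟩
  obtain ⟨_, ⟨g, rfl⟩, hg⟩ := hact T
  have hgY : ∀ m ∈ Y, (g : G) * m * (g : G)⁻¹ ∈ Y := by
    rintro m ⟨hm, w, hw⟩
    refine ⟨(hXMN g g.2).1 m hm, T.1 *ᵥ w, ?_⟩
    rw [← hg, hw, hφ]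
  refine ⟨g, ⟨hXH g.2, mem_normalizer_of_map_conj_eq (Subgroup.eq_of_le_of_card_ge (map_conj_le hgY)
    (Subgroup.card_map_of_injective (MulAut.conj (g : G)).injective).ge)⟩, fun y h => ?_⟩
  show Multiplicative.ofAdd (ey ⟨_, h⟩) = Multiplicative.ofAdd (T.1 *ᵥ ey y)
  refine congrArg Multiplicative.ofAdd (hj ?_)
  rw [hey, ← hg, hey, hφ]

/-- A quadratic element outside `O_p` gives a section `Qd(p)`. -/
theorem involves_qd (hp2 : p ≠ 2) {V H : Subgroup G} (hV : IsPGroup p V)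
    (hH : H ≤ Subgroup.normalizer (V : Set G))
    [((Subgroup.centralizer (V : Set G)).subgroupOf H).Normal] {a : G} (haH : a ∈ H)
    (hq : ∀ v ∈ V, a * (a * v * a⁻¹ * v⁻¹) * a⁻¹ = a * v * a⁻¹ * v⁻¹)
    (hout : (QuotientGroup.mk (⟨a, haH⟩ : H) : H ⧸ (Subgroup.centralizer (V : Set G)).subgroupOf H) ∉
      pCore p (H ⧸ (Subgroup.centralizer (V : Set G)).subgroupOf H)) :
    Involves (Cfsg.qd p) G := by
  obtain ⟨Y, e, hYV, he, hM⟩ := exists_witness hp2 hV hH haH hq hout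
  refine QdSection.involves_of_witness Y (isPGroup_of_le hYV hV) e he fun M => ?_
  obtain ⟨g, hg, h⟩ := hM M
  exact ⟨g, hg.2, h⟩

/-- A quadratic element outside `O_p` gives a section `SL₂(p)` inside the acting group. -/
theorem exists_sl2_section (hp2 : p ≠ 2) {V H : Subgroup G} (hV : IsPGroup p V)
    (hH : H ≤ Subgroup.normalizer (V : Set G))
    [((Subgroup.centralizer (V : Set G)).subgroupOf H).Normal] {a : G} (haH : a ∈ H)
    (hq : ∀ v ∈ V, a * (a * v * a⁻¹ * v⁻¹) * a⁻¹ = a * v * a⁻¹ * v⁻¹)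
    (hout : (QuotientGroup.mk (⟨a, haH⟩ : H) : H ⧸ (Subgroup.centralizer (V : Set G)).subgroupOf H) ∉
      pCore p (H ⧸ (Subgroup.centralizer (V : Set G)).subgroupOf H)) :
    ∃ K : Subgroup G, K ≤ H ∧ ∃ f : K →* Matrix.SpecialLinearGroup (Fin 2) (ZMod p), Function.Surjective f := by
  obtain ⟨Y, e, -, he, hM⟩ := exists_witness hp2 hV hH haH hq hout
  let Good : G → Matrix.SpecialLinearGroup (Fin 2) (ZMod p) → Prop := fun g M =>
    ∀ (y : Y) (h : g * (y : G) * g⁻¹ ∈ Y), e ⟨_, h⟩ = act M (e y)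
  have hmem : ∀ {g}, g ∈ H ⊓ Subgroup.normalizer (Y : Set G) → ∀ y : Y, g * (y : G) * g⁻¹ ∈ Y :=
    fun hg y => (Subgroup.mem_normalizer_iff.1 hg.2 _).1 y.2
  have huniq : ∀ {g M M'}, g ∈ H ⊓ Subgroup.normalizer (Y : Set G) → Good g M → Good g M' → M = M' :=
    fun {g M M'} hg h h' => QdSection.act_ext fun v => by
      obtain ⟨y, rfl⟩ := he v
      rw [← h y (hmem hg y), ← h' y (hmem hg y)]
  let K : Subgroup G :=
    { carrier := {g | g ∈ H ⊓ Subgroup.normalizer (Y : Set G) ∧ ∃ M, Good g M}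
      one_mem' := ⟨one_mem _, 1, fun y h => by rw [QdSection.act_one]; congr 1; exact Subtype.ext (by simp)⟩
      mul_mem' := by
        rintro g g' ⟨hg, M, hMg⟩ ⟨hg', M', hMg'⟩
        refine ⟨mul_mem hg hg', M * M', fun y h => ?_⟩
        rw [QdSection.act_mul, ← hMg' y (hmem hg' y), ← hMg ⟨_, hmem hg' y⟩ (hmem hg _)]
        congr 1
        exact Subtype.ext (by simp [mul_assoc])
      inv_mem' := by
        rintro g ⟨hg, M, hMg⟩
        refine ⟨inv_mem hg, M⁻¹, fun y h => ?_⟩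
        have h1 := hMg ⟨_, h⟩ (by simp [mul_assoc])
        rw [show (⟨g * (g⁻¹ * (y : G) * g⁻¹⁻¹) * g⁻¹, by simp [mul_assoc]⟩ : Y) = y from
          Subtype.ext (by simp [mul_assoc])] at h1
        rw [h1, ← QdSection.act_mul, inv_mul_cancel, QdSection.act_one] }
  choose Mf hMf using fun g : K => g.2.2
  refine ⟨K, fun g hg => hg.1.1, MonoidHom.mk' Mf fun g g' => huniq (g * g').2.1 (hMf _) ?_, fun M => ?_⟩
  · intro y h
    have hg := g.2.1
    have hg' := g'.2.1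
    rw [QdSection.act_mul, ← hMf g' y (hmem hg' y), ← hMf g ⟨_, hmem hg' y⟩ (hmem hg _)]
    congr 1
    exact Subtype.ext (by simp [mul_assoc])
  · obtain ⟨g, hg, h⟩ := hM M
    exact ⟨⟨g, hg, M, h⟩, huniq hg (hMf ⟨g, hg, M, h⟩) h⟩

end CfsgLib.Quadratic
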