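import Cfsg.Agent.Lib.Quadratic.Stable
import Cfsg.Agent.Lib.Dickson.Basic
import Cfsg.Agent.Lib.Blocks.FongReduction
import Cfsg.Agent.Lib.Fusion.PSolvable
import Cfsg.Agent.S0261
import Cfsg.Prelude.Def_PLocal

/-!
Consequences of the `SL₂(p)` section attached to a quadratic element outside `O_p`.
-/

set_option autoImplicit false
set_option linter.unusedSectionVars false

namespace CfsgLib.Quadratic

open CfsgLib CfsgLib.Local Cfsg
open scoped commutatorElement Pointwise

universe u
variable {G : Type u} [Group G] {p : ℕ}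

/-- A diagonal element of `SL₂`. -/
def diagHom (K : Type*) [Field K] : Kˣ →* Matrix.SpecialLinearGroup (Fin 2) K where
  toFun c := ⟨!![(c : K), 0; 0, ((c⁻¹ : Kˣ) : K)], by simp [Matrix.det_fin_two]⟩
  map_one' := by apply Dickson.ext_entries <;> simp
  map_mul' a b := by
    apply Subtype.ext
    show (!![((a * b : Kˣ) : K), 0; 0, (((a * b)⁻¹ : Kˣ) : K)] : Matrix (Fin 2) (Fin 2) K) =
      !![(a : K), 0; 0, ((a⁻¹ : Kˣ) : K)] * !![(b : K), 0; 0, ((b⁻¹ : Kˣ) : K)]
    ext i j
    fin_cases i <;> fin_cases j <;> simp [mul_comm]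

theorem diag_entries {K : Type*} [Field K] (c : Kˣ) :
    (diagHom K c).1 0 0 = c ∧ (diagHom K c).1 0 1 = 0 ∧ (diagHom K c).1 1 0 = 0 ∧
      (diagHom K c).1 1 1 = ((c : K))⁻¹ :=
  ⟨rfl, rfl, rfl, Units.val_inv_eq_inv_val c⟩

theorem diag_conj_up {K : Type*} [Field K] (c : Kˣ) (t : K) :
    diagHom K c * Dickson.up t * (diagHom K c)⁻¹ = Dickson.up ((c : K) * c * t) := by
  rw [mul_inv_eq_iff_eq_mul]
  obtain ⟨d0, d1, d2, d3⟩ := diag_entries c
  apply Dickson.ext_entries <;> simp [Dickson.mul_entry, d0, d1, d2, d3]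
  field_simp

theorem diag_conj_lo {K : Type*} [Field K] (c : Kˣ) (t : K) :
    diagHom K c * Dickson.lo ((c : K) * c * t) * (diagHom K c)⁻¹ = Dickson.lo t := by
  rw [mul_inv_eq_iff_eq_mul]
  obtain ⟨d0, d1, d2, d3⟩ := diag_entries c
  apply Dickson.ext_entries <;> simp [Dickson.mul_entry, d0, d1, d2, d3]
  field_simp

theorem eq_three_of_isPSolvable_sl2 [Fact p.Prime] (hp : p ≠ 2)
    (h : IsPSolvable p (Matrix.SpecialLinearGroup (Fin 2) (ZMod p))) : p = 3 := by
  classical
  have hP := (Fact.out : p.Prime)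
  by_contra h3
  obtain ⟨n, S, h0, h1, hm, hn, hidx⟩ := h
  have h01 : (Dickson.up (1 : ZMod p)) ≠ 1 := fun e => by
    have := congrArg (fun g : Matrix.SpecialLinearGroup (Fin 2) (ZMod p) => g.1 0 1) e
    simp at this
  obtain ⟨i, hi, hi'⟩ : ∃ i : Fin n, S i.castSucc ≠ ⊤ ∧ S i.succ = ⊤ := by
    have hall : ∀ j : Fin (n + 1), (¬ ∃ i : Fin n, S i.castSucc ≠ ⊤ ∧ S i.succ = ⊤) → S j ≠ ⊤ := by
      intro j hne
      induction j using Fin.induction with
      | zero => rw [h0]; intro e; exact h01 (Subgroup.mem_bot.1 (by rw [e]; trivial))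
      | succ i ih => exact fun e => hne ⟨i, ih, e⟩
    by_contra hne
    exact hall (Fin.last n) hne h1
  set N := S i.castSucc with hN
  haveI : N.Normal := hn _
  have hpow : ∀ g : Matrix.SpecialLinearGroup (Fin 2) (ZMod p), g ^ N.index ∈ N := fun g =>
    N.pow_index_mem g
  have hrel : N.relIndex (S i.succ) = N.index := by rw [hi', Subgroup.relIndex_top_right]
  have key : (∀ t : ZMod p, Dickson.up t ∈ N) → (∀ t : ZMod p, Dickson.lo t ∈ N) → False := by
    intro hu hl
    refine hi (top_le_iff.1 ((Dickson.closure_pair p).ge.trans ((Subgroup.closure_le _).2 ?_)))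
    rintro x (rfl | rfl)
    · exact hu _
    · exact hl _
  have hcopmem : ∀ g : Matrix.SpecialLinearGroup (Fin 2) (ZMod p),
      (∃ k : ℕ, N.index.Coprime k ∧ g ^ k = 1) → g ∈ N := by
    rintro g ⟨k, hk, hgk⟩
    have h2 : g ^ Nat.gcd N.index k ∈ N := by
      have e : (g : _ ⧸ N) ^ Nat.gcd N.index k = 1 := pow_gcd_eq_one.2
        ⟨by rw [← QuotientGroup.mk_pow, QuotientGroup.eq_one_iff]; exact hpow g,
         by rw [← QuotientGroup.mk_pow, hgk]; rfl⟩
      rwa [← QuotientGroup.mk_pow, QuotientGroup.eq_one_iff] at e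
    rwa [hk, pow_one] at h2
  rcases hidx i with ⟨m, hm'⟩ | hc
  · rw [hrel] at hm'
    have h5 : 5 ≤ p := by
      have := hP.two_le
      by_contra h5
      interval_cases p <;> first | exact hp rfl | exact h3 rfl | norm_num at hP
    have h20 : (2 : ZMod p) ≠ 0 := by
      rw [show (2 : ZMod p) = ((2 : ℕ) : ZMod p) by norm_num, Ne, ZMod.natCast_eq_zero_iff]
      exact Nat.not_dvd_of_pos_of_lt two_pos (by omega)
    set c : (ZMod p)ˣ := Units.mk0 2 h20
    have hcN : diagHom (ZMod p) c ∈ N := hcopmem _ ⟨p - 1, by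
      rw [hm']
      refine Nat.Coprime.pow_left _ ((Nat.Prime.coprime_iff_not_dvd hP).2 fun hd => ?_)
      have := Nat.le_of_dvd (by omega) hd
      omega, by rw [← map_pow, ZMod.units_pow_card_sub_one_eq_one, map_one]⟩
    have hne : ((c : ZMod p) * c - 1) ≠ 0 := by
      have e : ((c : ZMod p) * c - 1) = ((3 : ℕ) : ZMod p) := by
        simp only [c, Units.val_mk0]; push_cast; ring
      rw [e, Ne, ZMod.natCast_eq_zero_iff]
      exact Nat.not_dvd_of_pos_of_lt three_pos (by omega)
    refine key (fun t => ?_) (fun t => ?_)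
    · set s := t / ((c : ZMod p) * c - 1)
      have h2 : diagHom (ZMod p) c * (Dickson.up s * (diagHom (ZMod p) c)⁻¹ * (Dickson.up s)⁻¹) ∈ N :=
        N.mul_mem hcN (Subgroup.Normal.conj_mem inferInstance _ (N.inv_mem hcN) _)
      rw [← mul_assoc, ← mul_assoc, diag_conj_up, Dickson.up_inv, Dickson.up_mul] at h2
      have hs : s * ((c : ZMod p) * c - 1) = t := div_mul_cancel₀ _ hne
      rwa [show (c : ZMod p) * c * s + -s = t by linear_combination hs] at h2
    · set s := t / (1 - (c : ZMod p) * c)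
      have h2 : diagHom (ZMod p) c * (Dickson.lo ((c : ZMod p) * c * s) * (diagHom (ZMod p) c)⁻¹ *
          (Dickson.lo ((c : ZMod p) * c * s))⁻¹) ∈ N :=
        N.mul_mem hcN (Subgroup.Normal.conj_mem inferInstance _ (N.inv_mem hcN) _)
      rw [← mul_assoc, ← mul_assoc, diag_conj_lo] at h2
      have h3' : Dickson.lo (-((c : ZMod p) * c * s)) = (Dickson.lo ((c : ZMod p) * c * s))⁻¹ := by
        symm
        apply inv_eq_of_mul_eq_one_right
        apply Dickson.ext_entries <;> simp [Dickson.mul_entry]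
      rw [← h3', Dickson.lo_mul] at h2
      have hne' : (1 - (c : ZMod p) * c) ≠ 0 := fun e => hne (by linear_combination -e)
      have hs : s * (1 - (c : ZMod p) * c) = t := div_mul_cancel₀ _ hne'
      rwa [show s + -((c : ZMod p) * c * s) = t by linear_combination hs] at h2
  · rw [hrel] at hc
    refine key (fun t => hcopmem _ ⟨p, hc, ?_⟩) (fun t => hcopmem _ ⟨p, hc, ?_⟩)
    · rw [Dickson.up_pow, CharP.cast_eq_zero, zero_mul, Dickson.up_zero]
    · rw [Dickson.lo_pow, CharP.cast_eq_zero, zero_mul]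
      apply Dickson.ext_entries <;> simp

/-- A group with an abelian Sylow `2`-subgroup has no section `SL₂(p)`. -/
theorem no_sl2_of_isMulCommutative [Finite G] [Fact p.Prime] (hp : p ≠ 2) {H : Subgroup G} (T : Sylow 2 H)
    (hT : IsMulCommutative T) {K : Subgroup G} (hKH : K ≤ H)
    (f : K →* Matrix.SpecialLinearGroup (Fin 2) (ZMod p)) (hf : Function.Surjective f) : False := by
  haveI : Fact (Nat.Prime 2) := ⟨Nat.prime_two⟩
  let P0 : Sylow 2 K := default
  set Q := P0.mapSurjective hf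
  have hodd : Odd (Fintype.card (ZMod p)) := by
    rw [ZMod.card]; exact (Fact.out : p.Prime).odd_of_ne_two hp
  obtain ⟨k, hk, ⟨e⟩⟩ := Cfsg.Agent.S0261.result hodd Q
  have hQcomm : ∀ x y : (Q : Subgroup (Matrix.SpecialLinearGroup (Fin 2) (ZMod p))), x * y = y * x := by
    rintro ⟨x, hx⟩ ⟨y, hy⟩
    obtain ⟨x₀, hx₀, rfl⟩ := hx
    obtain ⟨y₀, hy₀, rfl⟩ := hy
    obtain ⟨T', hT'⟩ := (P0.2.map (Subgroup.inclusion hKH)).exists_le_sylow
    haveI := hT
    have h1 : ∀ a b : (T' : Subgroup H), a * b = b * a := by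
      intro a b
      apply (Sylow.equiv T' T).injective
      rw [map_mul, map_mul, mul_comm']
    have h2 := congrArg Subtype.val (h1 ⟨_, hT' ⟨x₀, hx₀, rfl⟩⟩ ⟨_, hT' ⟨y₀, hy₀, rfl⟩⟩)
    have h3 : x₀ * y₀ = y₀ * x₀ := Subgroup.inclusion_injective hKH (by simpa using h2)
    apply Subtype.ext
    show f x₀ * f y₀ = f y₀ * f x₀
    rw [← map_mul, ← map_mul, h3]
  have h4 := congrArg e (hQcomm (e.symm (QuaternionGroup.a 1)) (e.symm (QuaternionGroup.xa 0)))
  simp only [map_mul, MulEquiv.apply_symm_apply, QuaternionGroup.a_mul_xa, QuaternionGroup.xa_mul_a,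
    QuaternionGroup.xa.injEq, zero_sub, zero_add] at h4
  have h6 : (((2 : ℕ) : ZMod (2 * 2 ^ k))) = 0 := by push_cast; linear_combination -h4
  rw [ZMod.natCast_eq_zero_iff] at h6
  have := Nat.le_of_dvd two_pos h6
  have : 2 ^ 1 ≤ 2 ^ k := Nat.pow_le_pow_right two_pos hk
  omega

theorem eq_three_of_isPSolvable [Finite G] [Fact p.Prime] (hp : p ≠ 2) {H : Subgroup G} (hH : IsPSolvable p H)
    {K : Subgroup G} (hKH : K ≤ H)
    (f : K →* Matrix.SpecialLinearGroup (Fin 2) (ZMod p)) (hf : Function.Surjective f) : p = 3 :=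
  haveI : Fintype H := Fintype.ofFinite H
  eq_three_of_isPSolvable_sl2 hp (PSolvableClosure.of_surjective
    (f.comp (Subgroup.subgroupOfEquivOfLe hKH).toMonoidHom)
    (hf.comp (Subgroup.subgroupOfEquivOfLe hKH).surjective)
    (CfsgLib.Blocks.isPSolvable_subgroup Fact.out hH _))

/-- A faithful quadratic element outside `O_p(H)` gives a section `SL₂(p)`. -/
theorem exists_sl2_of_faithful [Finite G] [Fact p.Prime] (hp : p ≠ 2) {V H : Subgroup G} (hV : IsPGroup p V)
    (hHV : H ≤ Subgroup.normalizer (V : Set G)) (hf : H ⊓ Subgroup.centralizer (V : Set G) = ⊥)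
    {a : G} (haH : a ∈ H) (hq : ⁅⁅V, Subgroup.zpowers a⁆, Subgroup.zpowers a⁆ = ⊥)
    (hna : a ∉ (pCore p H).map H.subtype) :
    ∃ K : Subgroup G, K ≤ H ∧ ∃ f : K →* Matrix.SpecialLinearGroup (Fin 2) (ZMod p), Function.Surjective f := by
  have hbot : (Subgroup.centralizer (V : Set G)).subgroupOf H = ⊥ := by
    rw [Subgroup.subgroupOf_eq_bot, disjoint_iff, inf_comm, hf]
  haveI hn : ((Subgroup.centralizer (V : Set G)).subgroupOf H).Normal := by
    rw [hbot]; infer_instance
  refine exists_sl2_section hp hV hHV haH (quad_pointwise hq) fun h => hna ⟨⟨a, haH⟩, ?_, rfl⟩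
  haveI := (inferInstance : (pCore p (H ⧸ (Subgroup.centralizer (V : Set G)).subgroupOf H)).Normal).comap
    (QuotientGroup.mk' ((Subgroup.centralizer (V : Set G)).subgroupOf H))
  exact CfsgLib.le_pCore (N := (pCore p _).comap
      (QuotientGroup.mk' ((Subgroup.centralizer (V : Set G)).subgroupOf H)))
    ((CfsgLib.isPGroup_pCore p).comap_of_ker_isPGroup _
      (by rw [QuotientGroup.ker_mk', hbot]; exact IsPGroup.of_bot)) h

theorem isPGroup_of_isElementaryAbelian {V : Subgroup G} (hV : IsElementaryAbelian p V) : IsPGroup p V :=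
  fun v => ⟨1, Subtype.ext (by simpa using hV.2 v v.2)⟩

theorem exists_quad_outside [Finite G] [Fact p.Prime] {H : Subgroup G} {a b : G}
    (hab : H = Subgroup.closure {a, b}) (hnp : ¬ IsPGroup p H) :
    ∃ x ∈ H, (x = a ∨ x = b) ∧ x ∉ (pCore p H).map H.subtype := by
  by_contra h
  push Not at h
  refine hnp (IsPGroup.to_le ((CfsgLib.isPGroup_pCore p (G := H)).map H.subtype) ?_)
  refine hab.le.trans ((Subgroup.closure_le _).2 ?_)
  rintro x (rfl | rfl)
  · exact h x (hab ▸ Subgroup.subset_closure (by simp)) (Or.inl rfl)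
  · exact h x (hab ▸ Subgroup.subset_closure (by simp)) (Or.inr rfl)

section Stable

theorem isPStableOn_of_no_sl2 [Finite G] [Fact p.Prime] (hp : p ≠ 2) (V : Subgroup G) [V.Normal]
    (hV : IsPGroup p V)
    (hno : ∀ (K : Subgroup G) (f : K →* Matrix.SpecialLinearGroup (Fin 2) (ZMod p)), ¬ Function.Surjective f) :
    IsPStableOn p V := by
  intro a hq
  by_contra hout
  obtain ⟨K, -, f, hf⟩ := exists_sl2_section hp hV (H := ⊤) (a := a)
    (by rw [Subgroup.normalizer_eq_top]) (Subgroup.mem_top a) (quad_pointwise hq) (by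
      intro h
      apply hout
      let g : (⊤ : Subgroup G) ⧸ (Subgroup.centralizer (V : Set G)).subgroupOf ⊤ →*
          G ⧸ Subgroup.centralizer (V : Set G) :=
        QuotientGroup.map _ _ (Subgroup.subtype _) fun _ hx => hx
      have hg : Function.Surjective g := fun y => by
        obtain ⟨y, rfl⟩ := QuotientGroup.mk_surjective y
        exact ⟨QuotientGroup.mk ⟨y, Subgroup.mem_top y⟩, rfl⟩
      haveI := (inferInstance : (pCore p ((⊤ : Subgroup G) ⧸
        (Subgroup.centralizer (V : Set G)).subgroupOf ⊤)).Normal).map g hg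
      exact CfsgLib.le_pCore (N := (pCore p ((⊤ : Subgroup G) ⧸
        (Subgroup.centralizer (V : Set G)).subgroupOf ⊤)).map g) ((CfsgLib.isPGroup_pCore p).map g)
        ⟨_, h, rfl⟩)
  exact hno K f hf

theorem isActionPStable_of_no_sl2 [Finite G] [Fact p.Prime] (hp : p ≠ 2)
    (hno : ∀ (K : Subgroup G) (f : K →* Matrix.SpecialLinearGroup (Fin 2) (ZMod p)), ¬ Function.Surjective f) :
    IsActionPStable p G := by
  refine ⟨fun V _ hV => isPStableOn_of_no_sl2 hp V (isPGroup_of_isElementaryAbelian hV) hno, ?_,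
    fun S V hVn hV => ?_⟩
  · intro a hq
    set N := (frattini ↥(pCore p G)).map (pCore p G).subtype with hN
    set q := QuotientGroup.mk' N
    set W := (pCore p G).map q
    haveI : W.Normal := Subgroup.Normal.map inferInstance q (QuotientGroup.mk'_surjective N)
    have hnoQ : ∀ (K : Subgroup (G ⧸ N)) (f : K →* Matrix.SpecialLinearGroup (Fin 2) (ZMod p)),
        ¬ Function.Surjective f := fun K f hf => by
      obtain ⟨f', hf'⟩ := exists_surjective_comap q (QuotientGroup.mk'_surjective N) f hf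
      exact hno _ f' hf'
    have hqa : ⁅⁅W, Subgroup.zpowers (q a)⁆, Subgroup.zpowers (q a)⁆ = ⊥ := by
      rw [← MonoidHom.map_zpowers, ← Subgroup.map_commutator, ← Subgroup.map_commutator,
        Subgroup.map_eq_bot_iff, QuotientGroup.ker_mk']
      exact hq
    have h1 := isPStableOn_of_no_sl2 hp W ((CfsgLib.isPGroup_pCore p).map q) hnoQ (q a) hqa
    set C := Subgroup.centralizer (W : Set (G ⧸ N))
    set D' := (pCore p ((G ⧸ N) ⧸ C)).comap (QuotientGroup.mk' C) with hD'
    have hCD : C ≤ D' := fun x hx => by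
      show (QuotientGroup.mk x : (G ⧸ N) ⧸ C) ∈ pCore p _
      rw [(QuotientGroup.eq_one_iff x).2 hx]; exact one_mem _
    haveI : D'.Normal := Subgroup.normal_comap _
    obtain ⟨k, hk⟩ : ∃ k, C.relIndex D' = p ^ k := by
      obtain ⟨k, hk⟩ := IsPGroup.iff_card.1 (CfsgLib.isPGroup_pCore p (G := (G ⧸ N) ⧸ C))
      refine ⟨k, ?_⟩
      have h2 : D'.map (QuotientGroup.mk' C) = pCore p _ :=
        Subgroup.map_comap_eq_self_of_surjective (QuotientGroup.mk'_surjective C) _
      have h4 := Subgroup.relIndex_comap (⊥ : Subgroup ((G ⧸ N) ⧸ C)) (QuotientGroup.mk' C) D'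
      rw [MonoidHom.comap_bot, QuotientGroup.ker_mk', h2, Subgroup.relIndex_bot_left, hk] at h4
      exact h4
    refine ⟨D'.comap q, Subgroup.normal_comap q, Subgroup.comap_mono hCD, ⟨k, ?_⟩, h1⟩
    show (C.comap q).relIndex (D'.comap q) = p ^ k
    rw [Subgroup.relIndex_comap, Subgroup.map_comap_eq_self_of_surjective (QuotientGroup.mk'_surjective N), hk]
  · have hVp : IsPGroup p V := by
      intro v
      obtain ⟨s, -, hs⟩ := hV ⟨v.1, v.2, rfl⟩
      obtain ⟨k, hk⟩ := S.2 s
      refine ⟨k, Subtype.ext (Subtype.ext ?_)⟩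
      have := congrArg Subtype.val hk
      simp at this hs ⊢
      rw [← hs]; exact this
    refine isPStableOn_of_no_sl2 hp V hVp fun K f hf => ?_
    obtain ⟨f', hf'⟩ := exists_surjective_map _ (Subgroup.subtype_injective _) f hf
    exact hno _ f' hf'

end Stable

end CfsgLib.Quadratic
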