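import Cfsg.Agent.Lib.Dickson.Main
import Mathlib.RingTheory.IntegralDomain
import Mathlib.Algebra.CharP.Basic
import Mathlib.Algebra.Ring.Subring.Basic
import Mathlib.Data.ZMod.Basic

/-!
An irreducible pair of square-zero endomorphisms of an elementary abelian `p`-group: the generated
monoid induces `SL₂(p)` naturally on a quotient of some subgroup.
-/

set_option autoImplicit false
set_option linter.unusedSectionVars false

namespace CfsgLib.Quadratic

open CfsgLib.Dickson
open scoped Matrix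

variable {U : Type*} [AddCommGroup U] [Finite U] {p : ℕ} [hp : Fact p.Prime]

theorem realised_pow {R : Type*} [Monoid R] {P : R → Prop} (h1 : P 1) (hmul : ∀ x y, P x → P y → P (x * y))
    {x : R} (hx : P x) (n : ℕ) : P (x ^ n) := by
  induction n with
  | zero => simpa using h1
  | succ n ih => rw [pow_succ]; exact hmul _ _ ih hx

theorem exists_natural (hp2 : p ≠ 2) (hpU : ∀ u : U, p • u = 0) {A B : AddMonoid.End U}
    (hA : A * A = 0) (hB : B * B = 0)
    (hirr : ∀ W : AddSubgroup U, (∀ w ∈ W, A w ∈ W) → (∀ w ∈ W, B w ∈ W) → W = ⊥ ∨ W = ⊤)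
    (hne : A * B ≠ B * A) (Γ : Submonoid (AddMonoid.End U)) (hAΓ : 1 + A ∈ Γ) (hBΓ : 1 + B ∈ Γ) :
    ∃ j : (Fin 2 → ZMod p) →+ U, Function.Injective j ∧
      ∀ M : Matrix.SpecialLinearGroup (Fin 2) (ZMod p), ∃ T ∈ Γ, ∀ w, T (j w) = j (M.1 *ᵥ w) := by
  classical
  set c := A * B + B * A with hc
  have hcA : Commute c A := by
    show c * A = A * c
    rw [hc, add_mul, mul_add, mul_assoc B A A, hA, mul_zero, add_zero, ← mul_assoc A A B, hA, zero_mul,
      zero_add, mul_assoc]
  have hcB : Commute c B := by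
    show c * B = B * c
    rw [hc, add_mul, mul_add, mul_assoc A B B, hB, mul_zero, zero_add, ← mul_assoc B B A, hB, zero_mul,
      add_zero, mul_assoc]
  set R := Subring.closure ({c} : Set (AddMonoid.End U)) with hR
  letI : CommRing R := Subring.closureCommRingOfComm (by
    rintro x rfl y rfl; rfl)
  have hcomm : ∀ (r : R) (X : AddMonoid.End U), Commute c X → ∀ u, X ((r : AddMonoid.End U) u) =
      (r : AddMonoid.End U) (X u) := by
    intro r X hX u
    have h1 : (r : AddMonoid.End U) ∈ Subring.centralizer {X} := by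
      refine (Subring.closure_le.2 ?_) r.2
      rintro y rfl
      rintro z rfl
      exact hX.eq.symm
    have h2 : X * (r : AddMonoid.End U) = r * X := h1 X rfl
    exact DFunLike.congr_fun h2 u
  -- Schur
  have hinj : ∀ r : R, r ≠ 0 → ∀ u, (r : AddMonoid.End U) u = 0 → u = 0 := by
    intro r hr u hu
    set W : AddSubgroup U := AddMonoidHom.ker (r : AddMonoid.End U)
    rcases hirr W (fun w hw => by
        show (r : AddMonoid.End U) (A w) = 0
        rw [← hcomm r A hcA, (show (r : AddMonoid.End U) w = 0 from hw), map_zero])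
      (fun w hw => by
        show (r : AddMonoid.End U) (B w) = 0
        rw [← hcomm r B hcB, (show (r : AddMonoid.End U) w = 0 from hw), map_zero]) with h | h
    · exact AddSubgroup.mem_bot.1 (h ▸ (show u ∈ W from hu))
    · refine absurd (Subtype.ext (AddMonoidHom.ext fun v => ?_)) hr
      exact (show v ∈ W from h ▸ AddSubgroup.mem_top v)
  obtain ⟨u₀, hu₀⟩ : ∃ u, A u ≠ 0 := by
    by_contra h
    push Not at h
    exact hne (by rw [show A = 0 from AddMonoidHom.ext h, zero_mul, mul_zero])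
  set e1 := A u₀ with he1
  set e2 := B e1 with he2
  have hA1 : A e1 = 0 := DFunLike.congr_fun hA u₀
  have hB2 : B e2 = 0 := DFunLike.congr_fun hB e1
  have hc1 : c e1 = A e2 := by
    show A (B e1) + B (A e1) = A e2
    rw [hA1, map_zero, add_zero]
  have hcR : c ∈ R := Subring.subset_closure rfl
  -- no non-zero vector is killed by both
  have hkill : ∀ u, A u = 0 → B u = 0 → u = 0 := by
    intro u h1 h2
    by_contra hu
    set W : AddSubgroup U := AddMonoidHom.ker A ⊓ AddMonoidHom.ker B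
    rcases hirr W (fun w hw => by rw [show A w = 0 from hw.1]; exact W.zero_mem)
      (fun w hw => by rw [show B w = 0 from hw.2]; exact W.zero_mem) with h | h
    · exact hu (AddSubgroup.mem_bot.1 (h ▸ (show u ∈ W from ⟨h1, h2⟩)))
    · exact hu₀ ((show u₀ ∈ W from h ▸ AddSubgroup.mem_top u₀).1)
  have hc0 : (⟨c, hcR⟩ : R) ≠ 0 := by
    intro e
    have h0 : c = 0 := congrArg Subtype.val e
    have h2 : A e2 = 0 := by rw [← hc1, h0]; rfl
    exact hu₀ (hkill e1 hA1 (hkill e2 h2 hB2))
  haveI : Nontrivial R := ⟨⟨⟨c, hcR⟩, 0, hc0⟩⟩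
  haveI : NoZeroDivisors R := ⟨fun {r s} h => by
    by_contra hh
    push Not at hh
    refine hh.2 (Subtype.ext (AddMonoidHom.ext fun u => ?_))
    exact hinj r hh.1 _ (DFunLike.congr_fun (congrArg Subtype.val h) u)⟩
  haveI : Finite R := Finite.of_injective (fun r : R => ((r : AddMonoid.End U) : U → U))
    fun r s h => Subtype.ext (DFunLike.coe_injective h)
  haveI : IsDomain R := NoZeroDivisors.to_isDomain R
  letI : Field R := (Finite.isField_of_domain R).toField
  haveI : CharP R p := (CharP.charP_iff_prime_eq_zero hp.out).2 (Subtype.ext (AddMonoidHom.ext fun u => by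
    rw [SubringClass.coe_natCast]
    show (p : AddMonoid.End U) u = 0
    rw [AddMonoid.End.natCast_apply]
    exact hpU u))
  -- coordinates
  set cR : R := ⟨c, hcR⟩ with hcR'
  let f : (Fin 2 → R) →+ U :=
    { toFun := fun w => (w 0 : AddMonoid.End U) e1 + (w 1 : AddMonoid.End U) e2
      map_zero' := by simp
      map_add' := fun v w => by
        simp only [Pi.add_apply, Subring.coe_add]
        show ((v 0 : AddMonoid.End U) e1 + (w 0 : AddMonoid.End U) e1) +
          ((v 1 : AddMonoid.End U) e2 + (w 1 : AddMonoid.End U) e2) = _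
        abel }
  have hfA : ∀ w, A (f w) = f ![cR * w 1, 0] := by
    intro w
    show A ((w 0 : AddMonoid.End U) e1 + (w 1 : AddMonoid.End U) e2) =
      ((cR * w 1 : R) : AddMonoid.End U) e1 + ((0 : R) : AddMonoid.End U) e2
    rw [map_add, hcomm _ A hcA, hcomm _ A hcA, hA1, map_zero, zero_add, ← hc1, mul_comm cR (w 1)]
    simp [hcR']
  have hfB : ∀ w, B (f w) = f ![0, w 0] := by
    intro w
    show B ((w 0 : AddMonoid.End U) e1 + (w 1 : AddMonoid.End U) e2) =
      ((0 : R) : AddMonoid.End U) e1 + (w 0 : AddMonoid.End U) e2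
    rw [map_add, hcomm _ B hcB, hcomm _ B hcB, hB2, map_zero, add_zero]
    simp [he2]
  have hfs : Function.Surjective f := by
    have : f.range = ⊤ := by
      rcases hirr f.range (by rintro _ ⟨w, rfl⟩; exact ⟨_, (hfA w).symm⟩)
        (by rintro _ ⟨w, rfl⟩; exact ⟨_, (hfB w).symm⟩) with h | h
      · exfalso
        have h1 : e1 ∈ f.range := ⟨![1, 0], by simp [f]⟩
        rw [h, AddSubgroup.mem_bot] at h1
        exact hu₀ h1
      · exact h
    exact AddMonoidHom.range_eq_top.1 this
  have hfi : Function.Injective f := by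
    refine (injective_iff_map_eq_zero f).2 fun w hw => ?_
    have hne2 : e2 ≠ 0 := fun e => hu₀ (hkill e1 hA1 e)
    have h1 : (w 1 : AddMonoid.End U) e1 = 0 := by
      have h2 : A (f w) = 0 := by rw [hw, map_zero]
      rw [hfA] at h2
      have h3 : ((cR * w 1 : R) : AddMonoid.End U) e1 = 0 := by simpa [f] using h2
      exact hinj cR hc0 _ h3
    have hw1 : w 1 = 0 := by
      by_contra h
      exact hu₀ (hinj _ h _ h1)
    have hw0 : w 0 = 0 := by
      by_contra h
      have h2 : (w 0 : AddMonoid.End U) e1 = 0 := by simpa [f, hw1] using hw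
      exact hu₀ (hinj _ h _ h2)
    funext i; fin_cases i <;> assumption
  -- the realised matrices
  let Hset : Subgroup (Matrix.SpecialLinearGroup (Fin 2) R) :=
    { carrier := {m | ∃ T ∈ Γ, ∀ w, T (f w) = f (m.1 *ᵥ w)}
      one_mem' := ⟨1, Γ.one_mem, fun w => by simp⟩
      mul_mem' := by
        rintro m n ⟨T, hT, hm⟩ ⟨S, hS, hn⟩
        refine ⟨T * S, Γ.mul_mem hT hS, fun w => ?_⟩
        show T (S (f w)) = _
        rw [hn, hm, Matrix.mulVec_mulVec, Matrix.SpecialLinearGroup.coe_mul]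
      inv_mem' := by
        rintro m ⟨T, hT, hm⟩
        obtain ⟨n, hn⟩ : ∃ n, m⁻¹ = m ^ n :=
          ⟨_, (pow_eq_pow_iff_modEq.2 (Nat.ModEq.refl _)).trans
            (inv_eq_of_mul_eq_one_right (show m * m ^ (orderOf m - 1) = 1 by
              rw [← pow_succ', Nat.sub_add_cancel (orderOf_pos m), pow_orderOf_eq_one])).symm |>.symm⟩
        rw [hn]
        refine realised_pow (P := fun x => x ∈ {m : Matrix.SpecialLinearGroup (Fin 2) R |
          ∃ T ∈ Γ, ∀ w, T (f w) = f (m.1 *ᵥ w)}) ⟨1, Γ.one_mem, fun w => by simp⟩ ?_ ⟨T, hT, hm⟩ n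
        rintro m n ⟨T, hT, hm⟩ ⟨S, hS, hn⟩
        refine ⟨T * S, Γ.mul_mem hT hS, fun w => ?_⟩
        show T (S (f w)) = _
        rw [hn, hm, Matrix.mulVec_mulVec, Matrix.SpecialLinearGroup.coe_mul] }
  have hupH : up cR ∈ Hset := ⟨1 + A, hAΓ, fun w => by
    show f w + A (f w) = _
    rw [hfA, ← map_add]
    congr 1
    funext i; fin_cases i <;> simp [Matrix.mulVec, dotProduct, Fin.sum_univ_two]⟩
  have hloH : lo (1 : R) ∈ Hset := ⟨1 + B, hBΓ, fun w => by
    show f w + B (f w) = _
    rw [hfB, ← map_add]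
    congr 1
    funext i; fin_cases i <;> simp [Matrix.mulVec, dotProduct, Fin.sum_univ_two, add_comm]⟩
  obtain ⟨H, hH, ⟨e⟩⟩ := Dickson.dickson p hp2 Hset ⟨_, hupH, _, hloH, trace_up cR,
    by simp [Matrix.trace_fin_two, one_add_one_eq_two], fun h => hc0 (by
      have := congrArg (fun g : Matrix.SpecialLinearGroup (Fin 2) R => g.1 0 0) h
      simpa [mul_entry] using this)⟩
  -- normalise the copy of `SL₂(p)`
  set u := e.symm (up 1) with hu
  set v := e.symm (lo 1) with hv
  have htr : ∀ x : Matrix.SpecialLinearGroup (Fin 2) (ZMod p), x ^ p ^ 1 = 1 →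
      (e.symm x : Matrix.SpecialLinearGroup (Fin 2) R).1.trace = 2 := fun x hx =>
    trace_of_pow p (k := 1) (by rw [← Subgroup.coe_pow, ← map_pow, hx, map_one, Subgroup.coe_one])
  have hup : (up (1 : ZMod p)) ^ p ^ 1 = 1 := by rw [up_pow]; simp [up_zero]
  have hlo : (lo (1 : ZMod p)) ^ p ^ 1 = 1 := by rw [lo_pow]; apply ext_entries <;> simp
  have huv : (u : Matrix.SpecialLinearGroup (Fin 2) R) * v ≠ v * u := by
    intro h
    have h1 : u * v = v * u := Subtype.ext h
    rw [hu, hv, ← map_mul, ← map_mul] at h1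
    have := congrArg (fun g : Matrix.SpecialLinearGroup (Fin 2) (ZMod p) => g.1 0 0) (e.symm.injective h1)
    simp [mul_entry] at this
  obtain ⟨M, b, d, hb, hd, hMu, hMv⟩ := exists_conj_up_lo (htr _ hup) (htr _ hlo) huv
  -- the product of the two parameters is one
  have hbd : b * d = 1 := by
    set w0 : Matrix.SpecialLinearGroup (Fin 2) (ZMod p) := up 1 * (lo 1)⁻¹ * up 1 with hw0
    have hw4 : w0 ^ 4 = 1 := by
      apply ext_entries <;>
        simp [hw0, pow_succ, mul_entry, (inv_entries (lo (1 : ZMod p))).1, (inv_entries (lo (1 : ZMod p))).2.1,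
          (inv_entries (lo (1 : ZMod p))).2.2.1, (inv_entries (lo (1 : ZMod p))).2.2.2] <;> ring
    have hw2 : w0 ^ 2 ≠ 1 := by
      intro h
      have h2 := congrArg (fun g : Matrix.SpecialLinearGroup (Fin 2) (ZMod p) => g.1 0 0) h
      simp [hw0, pow_succ, mul_entry, (inv_entries (lo (1 : ZMod p))).1, (inv_entries (lo (1 : ZMod p))).2.1,
          (inv_entries (lo (1 : ZMod p))).2.2.1, (inv_entries (lo (1 : ZMod p))).2.2.2] at h2
      haveI : NeZero (2 : ZMod p) := ⟨Ring.two_ne_zero (by rwa [ringChar.eq (ZMod p) p])⟩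
      exact two_ne_zero (show (2 : ZMod p) = 0 by linear_combination -h2)
    set W : Matrix.SpecialLinearGroup (Fin 2) R := up b * (lo d)⁻¹ * up b with hW
    have hWe : W = conjBy M (e.symm w0 : Matrix.SpecialLinearGroup (Fin 2) R) := by
      rw [hW, ← hMu, ← hMv, hw0, map_mul, map_mul, map_inv, Subgroup.coe_mul, Subgroup.coe_mul,
        Subgroup.coe_inv, map_mul, map_mul, map_inv]
    have h4 : W ^ 4 = 1 := by
      rw [hWe, ← map_pow, ← Subgroup.coe_pow, ← map_pow, hw4, map_one, Subgroup.coe_one, map_one]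
    have h2 : W ^ 2 ≠ 1 := by
      intro h
      rw [hWe, ← map_pow, map_eq_one_iff _ (conjBy M).injective, ← Subgroup.coe_pow, ← map_pow,
        OneMemClass.coe_eq_one, map_eq_one_iff _ e.symm.injective] at h
      exact hw2 h
    obtain ⟨i0, i1, i2, i3⟩ := inv_entries (lo d)
    have t00 : W.1 0 0 = 1 - b * d := by simp [hW, mul_entry, i0, i1, i2, i3]; ring
    have t11 : W.1 1 1 = 1 - b * d := by simp [hW, mul_entry, i0, i1, i2, i3]; ring
    have t01 : W.1 0 1 = b * (2 - b * d) := by simp [hW, mul_entry, i0, i1, i2, i3]; ring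
    have t10 : W.1 1 0 = -d := by simp [hW, mul_entry, i0, i1, i2, i3]
    set t := 1 - b * d with ht
    -- `W ^ 2 = 2 t W - 1`
    have q00 : (W ^ 2).1 0 0 = 2 * t * W.1 0 0 - 1 := by
      simp only [sq, mul_entry, t00, t01, t10, t11, ht]; ring
    have q01 : (W ^ 2).1 0 1 = 2 * t * W.1 0 1 := by
      simp only [sq, mul_entry, t00, t01, t10, t11, ht]; ring
    have q10 : (W ^ 2).1 1 0 = 2 * t * W.1 1 0 := by
      simp only [sq, mul_entry, t00, t01, t10, t11, ht]; ring
    have q11 : (W ^ 2).1 1 1 = 2 * t * W.1 1 1 - 1 := by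
      simp only [sq, mul_entry, t00, t01, t10, t11, ht]; ring
    by_contra hne'
    have ht0 : t ≠ 0 := sub_ne_zero.2 (Ne.symm hne')
    haveI : NeZero (2 : R) := ⟨Ring.two_ne_zero (by rwa [ringChar.eq R p])⟩
    -- the square is an involution of determinant one
    have h22 : W ^ 2 * W ^ 2 = 1 := by rw [← pow_add]; exact h4
    have hinv : (W ^ 2)⁻¹ = W ^ 2 := inv_eq_of_mul_eq_one_right h22
    obtain ⟨j0, j1, j2, j3⟩ := inv_entries (W ^ 2)
    rw [hinv] at j1 j2 j0
    rw [q10, t10] at j2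
    have h10 : 2 * (2 * t) * d = 0 := by linear_combination (-(1 : R)) * j2
    rcases mul_eq_zero.1 h10 with h | h
    · exact mul_ne_zero two_ne_zero (mul_ne_zero two_ne_zero ht0) h
    · exact hd h
  -- the natural subgroup
  let ι : ZMod p →+* R := ZMod.castHom dvd_rfl R
  let Mi : Matrix (Fin 2) (Fin 2) R := ((M⁻¹ : (Matrix (Fin 2) (Fin 2) R)ˣ) : Matrix (Fin 2) (Fin 2) R)
  let j : (Fin 2 → ZMod p) →+ U :=
    { toFun := fun w => f (Mi *ᵥ ![b * ι (w 0), ι (w 1)])
      map_zero' := by simp [f]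
      map_add' := fun v w => by
        rw [← map_add, ← Matrix.mulVec_add]
        congr 2
        funext i; fin_cases i <;> simp [mul_add] }
  refine ⟨j, (injective_iff_map_eq_zero j).2 fun w hw => ?_, ?_⟩
  · have h1 : Mi *ᵥ ![b * ι (w 0), ι (w 1)] = 0 := hfi (hw.trans (map_zero f).symm)
    have h2 := congrArg ((M : Matrix (Fin 2) (Fin 2) R) *ᵥ ·) h1
    simp only [Mi, Matrix.mulVec_mulVec, Units.mul_inv, Matrix.one_mulVec, Matrix.mulVec_zero] at h2
    have a0 := congrFun h2 0
    have a1 := congrFun h2 1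
    simp [hb] at a0 a1
    funext i; fin_cases i
    · simpa using ι.injective (by simpa using a0 : ι (w 0) = ι 0)
    · simpa using ι.injective (by simpa using a1 : ι (w 1) = ι 0)
  · have hgen : ∀ (x : H) (X : Matrix.SpecialLinearGroup (Fin 2) R) (N : Matrix.SpecialLinearGroup (Fin 2) (ZMod p)),
        conjBy M x = X →
        (∀ w : Fin 2 → ZMod p, X.1 *ᵥ ![b * ι (w 0), ι (w 1)] = ![b * ι ((N.1 *ᵥ w) 0), ι ((N.1 *ᵥ w) 1)]) →
        ∃ T ∈ Γ, ∀ w, T (j w) = j (N.1 *ᵥ w) := by
      intro x X N hxX hXN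
      obtain ⟨T, hT, hTm⟩ := hH x.2
      refine ⟨T, hT, fun w => ?_⟩
      show T (f (Mi *ᵥ _)) = f (Mi *ᵥ _)
      rw [hTm, ← hXN w, ← hxX, coe_conjBy]
      congr 1
      simp only [Mi, Matrix.mulVec_mulVec, ← Matrix.mul_assoc, Units.inv_mul, Matrix.one_mul]
    intro N
    have hN : N ∈ Subgroup.closure ({up (1 : ZMod p), lo (1 : ZMod p)} :
        Set (Matrix.SpecialLinearGroup (Fin 2) (ZMod p))) := by
      rw [closure_pair p]; exact Subgroup.mem_top N
    let P : Matrix.SpecialLinearGroup (Fin 2) (ZMod p) → Prop := fun N => ∃ T ∈ Γ, ∀ w, T (j w) = j (N.1 *ᵥ w)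
    have hP1 : P 1 := ⟨1, Γ.one_mem, fun w => by simp⟩
    have hPmul : ∀ m n, P m → P n → P (m * n) := by
      rintro m n ⟨T, hT, hm⟩ ⟨S, hS, hn⟩
      refine ⟨T * S, Γ.mul_mem hT hS, fun w => ?_⟩
      show T (S (j w)) = _
      rw [hn, hm, Matrix.mulVec_mulVec, Matrix.SpecialLinearGroup.coe_mul]
    induction hN using Subgroup.closure_induction with
    | mem x hx =>
      rcases hx with rfl | rfl
      · refine hgen u _ _ hMu fun w => ?_
        funext i; fin_cases i <;> simp [Matrix.mulVec, dotProduct, Fin.sum_univ_two, mul_add]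
      · refine hgen v _ _ hMv fun w => ?_
        funext i; fin_cases i <;>
          simp [Matrix.mulVec, dotProduct, Fin.sum_univ_two, ← mul_assoc, mul_comm d b, hbd]
    | one => exact hP1
    | mul m n _ _ h1 h2 => exact hPmul m n h1 h2
    | inv m _ h1 =>
      have e : m⁻¹ = m ^ (orderOf m - 1) := inv_eq_of_mul_eq_one_right (by
        rw [← pow_succ', Nat.sub_add_cancel (orderOf_pos m), pow_orderOf_eq_one])
      rw [e]
      exact realised_pow (P := P) hP1 hPmul h1 _

end CfsgLib.Quadratic
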